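import Mathlib

/-!
# A central extension from an alternating form on an abelian Sylow subgroup (owner: helper92)

`exists_ext`: if `P` is an abelian subgroup of `G` whose `G`-fusion is by inversion and `B` is an
alternating form on `P` with values in `ZMod p`, there is a central extension of `G` by `C_p` whose
commutator form on `P` is `2 |G : P| B`.
-/

set_option autoImplicit false
set_option linter.unusedSectionVars false
set_option linter.style.haveILetI false
set_option warn.classDefReducibility false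

universe u

namespace Cfsg.Agent.H92.ST

open Subgroup

/-- alternating bilinear functions -/
structure Alt {P : Type*} [Group P] {p : ℕ} (B : P → P → ZMod p) : Prop where
  add_left : ∀ x y z, B (x * y) z = B x z + B y z
  add_right : ∀ x y z, B x (y * z) = B x y + B x z
  self : ∀ x, B x x = 0

namespace Alt

variable {P : Type*} [Group P] {p : ℕ} {B : P → P → ZMod p}

theorem one_left (h : Alt B) (z : P) : B 1 z = 0 := by
  have := h.add_left 1 1 z
  rw [mul_one] at this
  simpa using this

theorem one_right (h : Alt B) (z : P) : B z 1 = 0 := by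
  have := h.add_right z 1 1
  rw [mul_one] at this
  simpa using this

theorem inv_left (h : Alt B) (x z : P) : B x⁻¹ z = - B x z := by
  have := h.add_left x⁻¹ x z
  rw [inv_mul_cancel, h.one_left] at this
  exact eq_neg_of_add_eq_zero_left this.symm

theorem symm (h : Alt B) (x y : P) : B x y = - B y x := by
  have h1 := h.self (x * y)
  rw [h.add_left, h.add_right, h.add_right, h.self, h.self] at h1
  simp only [zero_add, add_zero] at h1
  exact eq_neg_of_add_eq_zero_left h1

end Alt

section cocycle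

variable {G : Type u} [Group G] [Finite G] (P : Subgroup G)

theorem pc_mem (i : G ⧸ P) (g : G) : (g • i).out⁻¹ * g * i.out ∈ P := by
  rw [mul_assoc, ← QuotientGroup.eq, QuotientGroup.out_eq']
  rw [← smul_eq_mul, ← MulAction.Quotient.smul_mk, QuotientGroup.out_eq']

/-- the coset cocycle -/
noncomputable def pc (i : G ⧸ P) (g : G) : P := ⟨(g • i).out⁻¹ * g * i.out, pc_mem P i g⟩

theorem pc_mul (i : G ⧸ P) (g h : G) : pc P i (g * h) = pc P (h • i) g * pc P i h := by
  apply Subtype.ext
  show ((g * h) • i).out⁻¹ * (g * h) * i.out =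
    ((g • (h • i)).out⁻¹ * g * (h • i).out) * ((h • i).out⁻¹ * h * i.out)
  rw [mul_smul]
  group

theorem pc_one (i : G ⧸ P) : pc P i 1 = 1 := by
  apply Subtype.ext
  show ((1 : G) • i).out⁻¹ * 1 * i.out = 1
  rw [one_smul]
  group

variable {p : ℕ} (B : P → P → ZMod p)

open Classical in
/-- the corestricted cocycle -/
noncomputable def cf (g h : G) : ZMod p :=
  haveI := Fintype.ofFinite (G ⧸ P)
  ∑ i : G ⧸ P, B (pc P (h • i) g) (pc P i h)

theorem sum_smul [Fintype (G ⧸ P)] {A : Type*} [AddCommMonoid A] (F : G ⧸ P → A) (g : G) :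
    ∑ i : G ⧸ P, F (g • i) = ∑ i : G ⧸ P, F i :=
  Fintype.sum_equiv (MulAction.toPerm g) _ _ (fun _ => rfl)

variable {B}

theorem cf_cocycle (hB : Alt B) (g h k : G) :
    cf P B g h + cf P B (g * h) k = cf P B h k + cf P B g (h * k) := by
  unfold cf
  rw [← @sum_smul G _ _ P (Fintype.ofFinite _) (ZMod p) _ (fun i => B (pc P (h • i) g) (pc P i h)) k]
  rw [← Finset.sum_add_distrib, ← Finset.sum_add_distrib]
  refine Finset.sum_congr rfl (fun i _ => ?_)
  rw [pc_mul P (k • i) g h, pc_mul P i h k, mul_smul, hB.add_left, hB.add_right]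
  ring

theorem cf_one_left (hB : Alt B) (g : G) : cf P B 1 g = 0 := by
  unfold cf
  haveI := Fintype.ofFinite (G ⧸ P)
  refine Finset.sum_eq_zero (fun i _ => ?_)
  rw [pc_one, hB.one_left]

theorem cf_one_right (hB : Alt B) (g : G) : cf P B g 1 = 0 := by
  unfold cf
  haveI := Fintype.ofFinite (G ⧸ P)
  refine Finset.sum_eq_zero (fun i _ => ?_)
  rw [pc_one, hB.one_right]

/-- the fusion hypothesis -/
def Fus : Prop := ∀ r : G, (∀ q ∈ P, r⁻¹ * q * r ∈ P → r⁻¹ * q * r = q) ∨
  (∀ q ∈ P, r⁻¹ * q * r ∈ P → r⁻¹ * q * r = q⁻¹)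

theorem exists_sb (hB : Alt B) (hF : Fus P) :
    ∃ (s : G ⧸ P → ZMod p) (b : G ⧸ P → P), (∀ i, s i * s i = 1) ∧ (∀ (x : P) i, s ((x : G) • i) = s i) ∧
      ∀ (x : P) i w, B (pc P i x) w = s i * B x w + B (b i) w - B (b ((x : G) • i)) w := by
  classical
  -- orbit representatives
  let o : G ⧸ P → G ⧸ P := fun i => (Quotient.mk (MulAction.orbitRel P (G ⧸ P)) i).out
  have ho : ∀ (x : P) i, o ((x : G) • i) = o i := by
    intro x i
    show (Quotient.mk (MulAction.orbitRel P (G ⧸ P)) _).out = (Quotient.mk (MulAction.orbitRel P (G ⧸ P)) _).out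
    congr 1
    apply Quotient.sound
    exact ⟨x, rfl⟩
  have hu : ∀ i, ∃ u : P, (u : G) • o i = i := by
    intro i
    have h1 : MulAction.orbitRel P (G ⧸ P) (o i) i := Quotient.exact (Quotient.out_eq _)
    obtain ⟨v, hv⟩ := h1
    refine ⟨v⁻¹, ?_⟩
    have hv' : (v : G) • i = o i := hv
    rw [← hv', InvMemClass.coe_inv, inv_smul_smul]
  choose u hu using hu
  have ha : ∀ i, (o i).out⁻¹ * (u i : G)⁻¹ * i.out ∈ P := by
    intro i
    have h1 : ((o i).out⁻¹ * (u i : G)⁻¹ * i.out) = ((u i : G) * (o i).out)⁻¹ * i.out := by group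
    rw [h1, ← QuotientGroup.eq, QuotientGroup.out_eq', ← smul_eq_mul, ← MulAction.Quotient.smul_mk,
      QuotientGroup.out_eq', hu]
  let a : G ⧸ P → P := fun i => ⟨_, ha i⟩
  let s : G ⧸ P → ZMod p := fun i =>
    if (∀ q ∈ P, (o i).out⁻¹ * q * (o i).out ∈ P → (o i).out⁻¹ * q * (o i).out = q) then 1 else -1
  let b : G ⧸ P → P := fun i =>
    if (∀ q ∈ P, (o i).out⁻¹ * q * (o i).out ∈ P → (o i).out⁻¹ * q * (o i).out = q) then a i * u i
      else a i * (u i)⁻¹
  have hb : ∀ i w, B (b i) w = B (a i) w + s i * B (u i) w := by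
    intro i w
    show B (if _ then _ else _) w = _ + (if _ then _ else _) * _
    split_ifs
    · rw [hB.add_left, one_mul]
    · rw [hB.add_left, hB.inv_left]
      ring
  refine ⟨s, b, ?_, ?_, ?_⟩
  · intro i
    show (if _ then _ else _) * (if _ then _ else _) = _
    split_ifs <;> ring
  · intro x i
    show (if _ then _ else _) = (if _ then _ else _)
    simp only [ho]
  · intro x i w
    rw [hb, hb]
    have hs : s ((x : G) • i) = s i := by
      show (if _ then _ else _) = (if _ then _ else _)
      simp only [ho]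
    rw [hs]
    -- the element `q`
    let q : P := (u ((x : G) • i))⁻¹ * x * u i
    have hq : ((o i).out⁻¹ * (q : G) * (o i).out) = (a ((x : G) • i) : G) * (pc P i x : G) * (a i : G)⁻¹ := by
      show (o i).out⁻¹ * ((u ((x : G) • i) : G)⁻¹ * x * u i) * (o i).out =
        ((o ((x : G) • i)).out⁻¹ * (u ((x : G) • i) : G)⁻¹ * ((x : G) • i).out) *
          (((x : G) • i).out⁻¹ * x * i.out) * ((o i).out⁻¹ * (u i : G)⁻¹ * i.out)⁻¹
      rw [ho]
      group
    have hqP : (o i).out⁻¹ * (q : G) * (o i).out ∈ P := by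
      rw [hq]
      exact mul_mem (mul_mem (a _).2 (pc P i x).2) (inv_mem (a i).2)
    have hBq : B q w = B x w + B (u i) w - B (u ((x : G) • i)) w := by
      show B ((u ((x : G) • i))⁻¹ * x * u i) w = _
      rw [hB.add_left, hB.add_left, hB.inv_left]
      ring
    have key : B (pc P i x) w = s i * B q w + B (a i) w - B (a ((x : G) • i)) w := by
      by_cases hc : ∀ q ∈ P, (o i).out⁻¹ * q * (o i).out ∈ P → (o i).out⁻¹ * q * (o i).out = q
      · have h1 := hc q q.2 hqP
        rw [hq] at h1
        have h2 : pc P i x = (a ((x : G) • i))⁻¹ * q * a i := by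
          apply Subtype.ext
          show (pc P i x : G) = (a ((x : G) • i) : G)⁻¹ * q * a i
          rw [← h1]
          group
        have h3 : s i = 1 := if_pos hc
        rw [h2, h3, hB.add_left, hB.add_left, hB.inv_left]
        ring
      · have h1 := ((hF (o i).out).resolve_left hc) q q.2 hqP
        rw [hq] at h1
        have h2 : pc P i x = (a ((x : G) • i))⁻¹ * q⁻¹ * a i := by
          apply Subtype.ext
          show (pc P i x : G) = (a ((x : G) • i) : G)⁻¹ * (q : G)⁻¹ * a i
          rw [← h1]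
          group
        have h3 : s i = -1 := if_neg hc
        rw [h2, h3, hB.add_left, hB.add_left, hB.inv_left, hB.inv_left]
        ring
    rw [key, hBq]
    ring

theorem cf_comm (hB : Alt B) (hF : Fus P) (hab : ∀ x y : P, x * y = y * x) (x y : P) :
    cf P B x y - cf P B y x = 2 * (P.index : ZMod p) * B x y := by
  classical
  obtain ⟨s, b, hs1, hs2, hsb⟩ := exists_sb P hB hF
  haveI := Fintype.ofFinite (G ⧸ P)
  have hr : ∀ (x : P) i w, B w (pc P i x) = s i * B w x + B w (b i) - B w (b ((x : G) • i)) := by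
    intro x i w
    rw [hB.symm w, hsb, hB.symm w x, hB.symm w (b i), hB.symm w (b ((x : G) • i))]
    ring
  have hcard : ((Fintype.card (G ⧸ P) : ℕ) : ZMod p) = (P.index : ZMod p) := by
    rw [Subgroup.index_eq_card, Nat.card_eq_fintype_card]
  have main : ∀ x y : P, cf P B x y = (P.index : ZMod p) * B x y +
      (∑ i : G ⧸ P, B (b ((y : G) • i)) (b i)) - (∑ i : G ⧸ P, B (b ((x * y : G) • i)) (b i)) +
      (∑ i : G ⧸ P, B (b ((x : G) • i)) (b i)) := by
    intro x y
    have h1 : cf P B x y = ∑ i : G ⧸ P, (B x y +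
        (s i * B x (b i) - s ((y : G) • i) * B x (b ((y : G) • i))) +
        (s ((y : G) • i) * B (b ((y : G) • i)) y - s ((x * y : G) • i) * B (b ((x * y : G) • i)) y) +
        B (b ((y : G) • i)) (b i) - B (b ((x * y : G) • i)) (b i) +
        B (b ((x : G) • (y : G) • i)) (b ((y : G) • i))) := by
      unfold cf
      refine Finset.sum_congr (by ext; simp) (fun i _ => ?_)
      rw [hsb x ((y : G) • i), hr y i x, hr y i (b ((y : G) • i)), hr y i (b ((x : G) • (y : G) • i)), hs2 y i,
        hB.self]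
      have h2 : (x * y : G) • i = (x : G) • (y : G) • i := mul_smul _ _ _
      rw [h2, hs2 x, hs2 y]
      linear_combination (B x y) * hs1 i
    rw [h1]
    simp only [Finset.sum_add_distrib, Finset.sum_sub_distrib]
    rw [sum_smul P (fun i => s i * B x (b i)) (y : G), sum_smul P (fun i => s i * B (b i) y) (y : G),
      sum_smul P (fun i => s i * B (b i) y) (x * y : G), sum_smul P (fun i => B (b ((x : G) • i)) (b i)) (y : G)]
    rw [Finset.sum_const, Finset.card_univ, nsmul_eq_mul, hcard]
    ring
  rw [main x y, main y x]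
  have h2 : (y * x : G) = x * y := congrArg Subtype.val (hab y x)
  rw [h2, hB.symm y x]
  ring

end cocycle

section ext

variable {G : Type u} [Group G] [Finite G] (P : Subgroup G) {p : ℕ} {B : P → P → ZMod p}

/-- the extension group -/
@[ext] structure Ex (P : Subgroup G) (B : P → P → ZMod p) where
  g : G
  u : ZMod p

noncomputable def exGroup (hB : Alt B) : Group (Ex P B) where
  mul x y := ⟨x.g * y.g, x.u + y.u + cf P B x.g y.g⟩
  one := ⟨1, 0⟩
  inv x := ⟨x.g⁻¹, - x.u - cf P B x.g⁻¹ x.g⟩
  mul_assoc x y z := by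
    ext
    · exact mul_assoc _ _ _
    · show x.u + y.u + cf P B x.g y.g + z.u + cf P B (x.g * y.g) z.g =
        x.u + (y.u + z.u + cf P B y.g z.g) + cf P B x.g (y.g * z.g)
      linear_combination cf_cocycle P hB x.g y.g z.g
  one_mul x := by
    ext
    · exact one_mul _
    · show 0 + x.u + cf P B 1 x.g = x.u
      rw [cf_one_left P hB]
      ring
  mul_one x := by
    ext
    · exact mul_one _
    · show x.u + 0 + cf P B x.g 1 = x.u
      rw [cf_one_right P hB]
      ring
  inv_mul_cancel x := by
    ext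
    · exact inv_mul_cancel _
    · show - x.u - cf P B x.g⁻¹ x.g + x.u + cf P B x.g⁻¹ x.g = 0
      ring

/-- the central extension -/
theorem exists_ext [NeZero p] (hB : Alt B) (hF : Fus P) (hab : ∀ x y : P, x * y = y * x) :
    ∃ (E : Type u) (_ : Group E) (_ : Finite E) (π : E →* G) (ζ : Multiplicative (ZMod p) →* E),
      Function.Surjective π ∧ Function.Injective ζ ∧ π.ker = ζ.range ∧ (∀ z e, ζ z * e = e * ζ z) ∧
      ∀ (x y : E) (hx : π x ∈ P) (hy : π y ∈ P),
        x * y = y * x * ζ (Multiplicative.ofAdd (2 * (P.index : ZMod p) * B ⟨π x, hx⟩ ⟨π y, hy⟩)) := by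
  letI := exGroup P hB
  let π : Ex P B →* G := { toFun := fun x => x.g, map_one' := rfl, map_mul' := fun _ _ => rfl }
  let ζ : Multiplicative (ZMod p) →* Ex P B :=
    { toFun := fun z => ⟨1, z.toAdd⟩
      map_one' := rfl
      map_mul' := by
        intro a b
        ext
        · exact (mul_one _).symm
        · show (a * b).toAdd = a.toAdd + b.toAdd + cf P B 1 1
          rw [cf_one_left P hB, add_zero]
          rfl }
  have hfin : Finite (Ex P B) := by
    apply Finite.of_injective (fun x : Ex P B => (x.g, x.u))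
    intro x y hxy
    ext
    · exact congrArg Prod.fst hxy
    · exact congrArg Prod.snd hxy
  refine ⟨Ex P B, inferInstance, hfin, π, ζ, ?_, ?_, ?_, ?_, ?_⟩
  · intro g
    exact ⟨⟨g, 0⟩, rfl⟩
  · intro a b hab'
    have : (ζ a).u = (ζ b).u := by rw [hab']
    exact this
  · ext x
    rw [MonoidHom.mem_ker, MonoidHom.mem_range]
    constructor
    · intro hx
      refine ⟨Multiplicative.ofAdd x.u, ?_⟩
      ext
      · exact hx.symm
      · rfl
    · rintro ⟨z, rfl⟩
      rfl
  · intro z e
    ext
    · show 1 * e.g = e.g * 1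
      rw [one_mul, mul_one]
    · show z.toAdd + e.u + cf P B 1 e.g = e.u + z.toAdd + cf P B e.g 1
      rw [cf_one_left P hB, cf_one_right P hB]
      ring
  · intro x y hx hy
    have h1 := cf_comm P hB hF hab ⟨π x, hx⟩ ⟨π y, hy⟩
    have h2 : x.g * y.g = y.g * x.g := congrArg Subtype.val (hab ⟨π x, hx⟩ ⟨π y, hy⟩)
    have h1' : cf P B x.g y.g - cf P B y.g x.g = 2 * (P.index : ZMod p) * B ⟨π x, hx⟩ ⟨π y, hy⟩ := h1
    ext
    · show x.g * y.g = y.g * x.g * 1
      rw [mul_one, h2]
    · show x.u + y.u + cf P B x.g y.g = y.u + x.u + cf P B y.g x.g +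
        (2 * (P.index : ZMod p) * B ⟨π x, hx⟩ ⟨π y, hy⟩) + cf P B (y.g * x.g) 1
      rw [cf_one_right P hB]
      linear_combination h1'

end ext

end Cfsg.Agent.H92.ST
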