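import Mathlib
import Cfsg.Agent.Transfer.NPC
import Cfsg.Agent.Solv.Core
import Cfsg.Agent.H92.STb

/-!
# Abelian Sylow subgroups whose automizer is generated by the inversion (owner: helper92)

`Sit P`: `p` is odd, the Sylow `p`-subgroup `P` is abelian, some element inverts it and every element
of its normalizer centralizes or inverts it.
-/

set_option autoImplicit false
set_option linter.unusedSectionVars false
set_option linter.style.haveILetI false

universe u

namespace Cfsg.Agent.H92.ST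

open Subgroup

/-- the situation -/
structure Sit {G : Type u} [Group G] {p : ℕ} (P : Sylow p G) : Prop where
  odd : p ≠ 2
  comm : ∀ x ∈ P, ∀ y ∈ P, x * y = y * x
  inv : ∃ t : G, ∀ x ∈ P, t⁻¹ * x * t = x⁻¹
  nrm : ∀ n ∈ normalizer ((P : Subgroup G) : Set G),
    (∀ x ∈ P, n⁻¹ * x * n = x) ∨ (∀ x ∈ P, n⁻¹ * x * n = x⁻¹)

variable {G : Type u} [Group G] [Finite G] {p : ℕ} [hp : Fact p.Prime] {P : Sylow p G}

namespace Sit

theorem isMulComm (h : Sit P) : IsMulCommutative (P : Subgroup G) :=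
  ⟨⟨fun x y => Subtype.ext (h.comm x x.2 y y.2)⟩⟩

theorem odd_orderOf (h : Sit P) {x : G} (hx : x ∈ P) : Odd (orderOf x) := by
  obtain ⟨k, hk⟩ := P.isPGroup' ⟨x, hx⟩
  have h1 : x ^ p ^ k = 1 := congrArg Subtype.val hk
  have h2 := orderOf_dvd_of_pow_eq_one h1
  exact Odd.of_dvd_nat ((hp.out.odd_of_ne_two h.odd).pow) h2

theorem eq_one_of_inv (h : Sit P) {x : G} (hx : x ∈ P) (hi : x = x⁻¹) : x = 1 := by
  have h1 : x ^ 2 = 1 := by
    rw [pow_two]
    nth_rewrite 2 [hi]
    exact mul_inv_cancel x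
  have h2 : orderOf x ∣ 2 := orderOf_dvd_of_pow_eq_one h1
  have h3 := h.odd_orderOf hx
  rcases (Nat.dvd_prime Nat.prime_two).1 h2 with h4 | h4
  · exact orderOf_eq_one_iff.1 h4
  · rw [h4] at h3
    exact absurd h3 (by decide)

theorem eq_one_of_mem (h : Sit P) {x : G} (hx : x ∈ P) {c : G} (h1 : c = x) (h2 : c = x⁻¹) : x = 1 :=
  h.eq_one_of_inv hx (h1.symm.trans h2)

/-- fusion in `P` -/
theorem fus_elt (h : Sit P) {x g : G} (hx : x ∈ P) (hy : g⁻¹ * x * g ∈ P) :
    g⁻¹ * x * g = x ∨ g⁻¹ * x * g = x⁻¹ := by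
  haveI := h.isMulComm
  obtain ⟨n, hn, he⟩ := P.conj_eq_normalizer_conj_of_mem x g hx hy
  rcases h.nrm n hn with h1 | h1
  · exact Or.inl (he.trans (h1 x hx))
  · exact Or.inr (he.trans (h1 x hx))

theorem isConj_iff' (h : Sit P) {x y : G} (hx : x ∈ P) (hy : y ∈ P) :
    IsConj x y ↔ y = x ∨ y = x⁻¹ := by
  constructor
  · intro hc
    obtain ⟨c, hc⟩ := isConj_iff.1 hc
    have h1 : (c⁻¹)⁻¹ * x * c⁻¹ = y := by rw [inv_inv]; exact hc
    have h2 := h.fus_elt (g := c⁻¹) hx (by rw [h1]; exact hy)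
    rw [h1] at h2
    exact h2
  · rintro (rfl | rfl)
    · exact IsConj.refl _
    · obtain ⟨t, ht⟩ := h.inv
      rw [isConj_iff]
      refine ⟨t⁻¹, ?_⟩
      rw [inv_inv]
      exact ht x hx

/-- the fusion hypothesis of the extension theorem -/
theorem fus (h : Sit P) : Fus (P : Subgroup G) := by
  intro r
  by_contra hcon
  push Not at hcon
  obtain ⟨⟨q, hq, hqr, hq1⟩, ⟨s, hs, hsr, hs1⟩⟩ := hcon
  have h1 := (h.fus_elt hq hqr).resolve_left hq1
  have h2 := (h.fus_elt hs hsr).resolve_right hs1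
  have h3 : r⁻¹ * (q * s) * r = q⁻¹ * s := by
    rw [show r⁻¹ * (q * s) * r = (r⁻¹ * q * r) * (r⁻¹ * s * r) by group, h1, h2]
  have h4 := h.fus_elt (x := q * s) (g := r) (mul_mem hq hs) (by
    rw [h3]; exact mul_mem (inv_mem hq) hs)
  rw [h3] at h4
  rcases h4 with h4 | h4
  · apply hq1
    have : q⁻¹ = q := mul_right_cancel h4
    rw [h1, this]
  · apply hs1
    have h5 : (q * s)⁻¹ = q⁻¹ * s⁻¹ := by
      rw [h.comm q hq s hs, mul_inv_rev]
    rw [h5] at h4
    have : s = s⁻¹ := mul_left_cancel h4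
    rw [h2, ← this]

/-- local `p`-nilpotence -/
theorem npc (h : Sit P) {x : G} (hx : x ∈ P) (hx1 : x ≠ 1) :
    Cfsg.HasNormalPComplement p (centralizer ({x} : Set G)) := by
  have hle : (P : Subgroup G) ≤ centralizer ({x} : Set G) := by
    intro y hy
    rw [mem_centralizer_singleton_iff]
    exact h.comm y hy x hx
  refine Cfsg.Agent.Transfer.hasNPC_of_normalizer_le_centralizer (P.subtype hle) ?_
  intro n hn
  have hnP : (n : G) ∈ normalizer ((P : Subgroup G) : Set G) := by
    rw [mem_normalizer_iff]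
    intro y
    constructor
    · intro hy
      have hyC : y ∈ centralizer ({x} : Set G) := hle hy
      have h1 : (⟨y, hyC⟩ : centralizer ({x} : Set G)) ∈ (P.subtype hle : Subgroup _) := hy
      exact (mem_normalizer_iff.1 hn ⟨y, hyC⟩).1 h1
    · intro hy
      have hyC : (n : G) * y * (n : G)⁻¹ ∈ centralizer ({x} : Set G) := hle hy
      have hyC' : y ∈ centralizer ({x} : Set G) := by
        have := mul_mem (mul_mem (inv_mem n.2) hyC) n.2
        simpa [mul_assoc] using this
      exact (mem_normalizer_iff.1 hn ⟨y, hyC'⟩).2 hy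
  have hnx : (n : G)⁻¹ * x * n = x := by
    have := mem_centralizer_singleton_iff.1 n.2
    rw [mul_assoc, ← this]
    group
  rcases h.nrm _ hnP with h1 | h1
  · rw [mem_centralizer_iff]
    rintro ⟨y, hyC⟩ hy
    have h2 := h1 y hy
    apply Subtype.ext
    show y * (n : G) = n * y
    calc y * (n : G) = n * ((n : G)⁻¹ * y * n) := by group
      _ = n * y := by rw [h2]
  · exact absurd (h.eq_one_of_mem hx hnx (h1 x hx)) hx1

end Sit

/-- normal `p`-complement, in terms of the index of the `p'`-core -/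
theorem index_core_of_npc {C : Type u} [Group C] [Finite C] (h : Cfsg.HasNormalPComplement p C) :
    ∃ k, (Cfsg.pPrimeCore p C).index = p ^ k := by
  obtain ⟨N, hN, hc, k, hk⟩ := Cfsg.Agent.Transfer.hasNPC_iff_exists.1 h
  have hle : N ≤ Cfsg.pPrimeCore p C := le_sSup ⟨hN, hc⟩
  have h1 : (Cfsg.pPrimeCore p C).index ∣ N.index := index_dvd_of_le hle
  rw [hk] at h1
  obtain ⟨j, _, hj⟩ := (Nat.dvd_prime_pow hp.out).1 h1
  exact ⟨j, hj⟩

theorem Sit.index_core (h : Sit P) {x : G} (hx : x ∈ P) (hx1 : x ≠ 1) :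
    ∃ k, (Cfsg.pPrimeCore p (centralizer ({x} : Set G))).index = p ^ k :=
  index_core_of_npc (h.npc hx hx1)

/-- the `p`-part of the order of the centralizer -/
theorem Sit.cent_ppart (h : Sit P) {x : G} (hx : x ∈ P) :
    p ^ (Nat.card (centralizer ({x} : Set G))).factorization p = Nat.card P := by
  have hle : (P : Subgroup G) ≤ centralizer ({x} : Set G) := by
    intro y hy
    rw [mem_centralizer_singleton_iff]
    exact h.comm y hy x hx
  have h1 := (P.subtype hle).card_eq_multiplicity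
  rw [← h1]
  exact Nat.card_congr (subgroupOfEquivOfLe hle).toEquiv

end Cfsg.Agent.H92.ST
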