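import Mathlib

/-!
# Integral vectors of norm two with pairwise inner product one (owner: helper92)
-/

set_option autoImplicit false

namespace Cfsg.Agent.H92.ST

section star

variable {κ : Type*} [Fintype κ] [DecidableEq κ]

/-- the support -/
def sup (v : κ → ℤ) : Finset κ := Finset.univ.filter (fun k => v k ≠ 0)

theorem mem_sup (v : κ → ℤ) (k : κ) : k ∈ sup v ↔ v k ≠ 0 := by simp [sup]

theorem sum_sup (v : κ → ℤ) (f : κ → ℤ) (hf : ∀ k, v k = 0 → f k = 0) :
    ∑ k, f k = ∑ k ∈ sup v, f k := by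
  symm
  apply Finset.sum_subset (Finset.subset_univ _)
  intro k _ hk
  rw [mem_sup, not_not] at hk
  exact hf k hk

theorem norm_two_unit {v : κ → ℤ} (h : ∑ k, v k ^ 2 = 2) {k : κ} (hk : v k ≠ 0) :
    v k = 1 ∨ v k = -1 := by
  have h1 : v k ^ 2 ≤ ∑ k, v k ^ 2 :=
    Finset.single_le_sum (f := fun k => v k ^ 2) (fun _ _ => sq_nonneg _) (Finset.mem_univ k)
  rw [h] at h1
  have h2 : v k ≤ 1 := by nlinarith
  have h3 : -1 ≤ v k := by nlinarith
  omega

theorem norm_two_card {v : κ → ℤ} (h : ∑ k, v k ^ 2 = 2) : (sup v).card = 2 := by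
  have h1 : ∑ k, v k ^ 2 = ∑ k ∈ sup v, v k ^ 2 := sum_sup v _ (fun k hk => by rw [hk]; ring)
  have h2 : ∑ k ∈ sup v, v k ^ 2 = ∑ k ∈ sup v, (1 : ℤ) := by
    refine Finset.sum_congr rfl (fun k hk => ?_)
    rcases norm_two_unit h ((mem_sup v k).1 hk) with h3 | h3 <;> rw [h3] <;> norm_num
  rw [h, h2] at h1
  simp only [Finset.sum_const, nsmul_eq_mul, mul_one] at h1
  exact_mod_cast h1.symm

/-- two vectors of norm two with product one -/
theorem inter_one {v w : κ → ℤ} (hv : ∑ k, v k ^ 2 = 2) (hw : ∑ k, w k ^ 2 = 2)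
    (h : ∑ k, v k * w k = 1) : ∃ k, sup v ∩ sup w = {k} ∧ v k = w k := by
  have h1 : ∑ k, v k * w k = ∑ k ∈ sup v ∩ sup w, v k * w k := by
    symm
    apply Finset.sum_subset (Finset.subset_univ _)
    intro k _ hk
    rw [Finset.mem_inter, mem_sup, mem_sup] at hk
    by_cases hk1 : v k = 0
    · rw [hk1, zero_mul]
    · have : w k = 0 := by
        by_contra hk2
        exact hk ⟨hk1, hk2⟩
      rw [this, mul_zero]
  have hu : ∀ k ∈ sup v ∩ sup w, v k * w k = 1 ∨ v k * w k = -1 := by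
    intro k hk
    rw [Finset.mem_inter, mem_sup, mem_sup] at hk
    rcases norm_two_unit hv hk.1 with h3 | h3 <;> rcases norm_two_unit hw hk.2 with h4 | h4 <;>
      rw [h3, h4] <;> norm_num
  have hc : (sup v ∩ sup w).card ≤ 2 :=
    (Finset.card_le_card Finset.inter_subset_left).trans (norm_two_card hv).le
  rw [h] at h1
  interval_cases hcc : (sup v ∩ sup w).card
  · rw [Finset.card_eq_zero] at hcc
    rw [hcc] at h1
    simp at h1
  · obtain ⟨k, hk⟩ := Finset.card_eq_one.1 hcc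
    refine ⟨k, hk, ?_⟩
    rw [hk, Finset.sum_singleton] at h1
    have hk' : k ∈ sup v ∩ sup w := by rw [hk]; simp
    rw [Finset.mem_inter, mem_sup, mem_sup] at hk'
    rcases norm_two_unit hv hk'.1 with h3 | h3 <;> rcases norm_two_unit hw hk'.2 with h4 | h4 <;>
      rw [h3, h4] at h1 ⊢ <;> norm_num at h1
  · obtain ⟨a, b, hab, hk⟩ := Finset.card_eq_two.1 hcc
    have ha := hu a (by rw [hk]; simp)
    have hb := hu b (by rw [hk]; simp)
    rw [hk, Finset.sum_pair hab] at h1
    omega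

theorem triple {A B C D : Finset κ} (hA : A.card = 2) (hB : B.card = 2) (hC : C.card = 2)
    {k a b : κ} (hAB : A ∩ B = {k}) (hAC : A ∩ C = {a}) (hBC : B ∩ C = {b})
    {x y z : κ} (hDA : D ∩ A = {x}) (hDB : D ∩ B = {y}) (hDC : D ∩ C = {z}) : k ∈ C := by
  by_contra hk
  have ka : k ∈ A := (Finset.mem_inter.1 (hAB ▸ Finset.mem_singleton_self k)).1
  have kb : k ∈ B := (Finset.mem_inter.1 (hAB ▸ Finset.mem_singleton_self k)).2
  have aA : a ∈ A := (Finset.mem_inter.1 (hAC ▸ Finset.mem_singleton_self a)).1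
  have aC : a ∈ C := (Finset.mem_inter.1 (hAC ▸ Finset.mem_singleton_self a)).2
  have bB : b ∈ B := (Finset.mem_inter.1 (hBC ▸ Finset.mem_singleton_self b)).1
  have bC : b ∈ C := (Finset.mem_inter.1 (hBC ▸ Finset.mem_singleton_self b)).2
  have hka : k ≠ a := fun h => hk (h ▸ aC)
  have hkb : k ≠ b := fun h => hk (h ▸ bC)
  have hab : a ≠ b := by
    intro h
    have : a ∈ A ∩ B := Finset.mem_inter.2 ⟨aA, h ▸ bB⟩
    rw [hAB, Finset.mem_singleton] at this
    exact hka this.symm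
  have eA : A = {k, a} := (Finset.eq_of_subset_of_card_le (by
    intro u hu
    rw [Finset.mem_insert, Finset.mem_singleton] at hu
    rcases hu with rfl | rfl
    · exact ka
    · exact aA) (by rw [hA, Finset.card_pair hka])).symm
  have eB : B = {k, b} := (Finset.eq_of_subset_of_card_le (by
    intro u hu
    rw [Finset.mem_insert, Finset.mem_singleton] at hu
    rcases hu with rfl | rfl
    · exact kb
    · exact bB) (by rw [hB, Finset.card_pair hkb])).symm
  have eC : C = {a, b} := (Finset.eq_of_subset_of_card_le (by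
    intro u hu
    rw [Finset.mem_insert, Finset.mem_singleton] at hu
    rcases hu with rfl | rfl
    · exact aC
    · exact bC) (by rw [hC, Finset.card_pair hab])).symm
  have key : ∀ (u v w : κ), u ≠ v → D ∩ {u, v} = {w} → (u ∈ D ↔ v ∉ D) := by
    intro u v w huv hD
    have hw : w ∈ D ∩ {u, v} := hD ▸ Finset.mem_singleton_self w
    rw [Finset.mem_inter, Finset.mem_insert, Finset.mem_singleton] at hw
    constructor
    · intro h1 h2
      have h3 : u ∈ D ∩ {u, v} := by simp [h1]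
      have h4 : v ∈ D ∩ {u, v} := by simp [h2]
      rw [hD, Finset.mem_singleton] at h3 h4
      exact huv (h3.trans h4.symm)
    · intro h1
      rcases hw.2 with h2 | h2
      · rw [← h2]; exact hw.1
      · exact absurd (h2 ▸ hw.1) h1
  rw [eA] at hDA
  rw [eB] at hDB
  rw [eC] at hDC
  have k1 := key _ _ _ hka hDA
  have k2 := key _ _ _ hkb hDB
  have k3 := key _ _ _ hab hDC
  tauto

/-- the star lemma -/
theorem star {ι : Type*} (v : ι → κ → ℤ) (h2 : ∀ i, ∑ k, v i k ^ 2 = 2)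
    (h1 : ∀ i j, v i = v j ∨ ∑ k, v i k * v j k = 1) (a b c d : ι)
    (hab : v a ≠ v b) (hac : v a ≠ v c) (had : v a ≠ v d) (hbc : v b ≠ v c) (hbd : v b ≠ v d)
    (hcd : v c ≠ v d) :
    ∃ (k : κ) (δ : ℤ), (δ = 1 ∨ δ = -1) ∧ ∀ i, v i k = δ := by
  have hI : ∀ i j, v i ≠ v j → ∃ k, sup (v i) ∩ sup (v j) = {k} ∧ v i k = v j k :=
    fun i j hij => inter_one (h2 i) (h2 j) ((h1 i j).resolve_left hij)
  obtain ⟨k, hk, hk'⟩ := hI a b hab
  have hka : v a k ≠ 0 := by
    have : k ∈ sup (v a) ∩ sup (v b) := hk ▸ Finset.mem_singleton_self k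
    rw [Finset.mem_inter, mem_sup] at this
    exact this.1
  have main : ∀ i, k ∈ sup (v i) := by
    intro i
    by_cases hia : v i = v a
    · rw [hia, mem_sup]; exact hka
    by_cases hib : v i = v b
    · rw [hib, mem_sup, ← hk']; exact hka
    obtain ⟨x, hx, -⟩ := hI a i (Ne.symm hia)
    obtain ⟨y, hy, -⟩ := hI b i (Ne.symm hib)
    by_cases hic : v i = v c
    · obtain ⟨x', hx', -⟩ := hI d a had.symm
      obtain ⟨y', hy', -⟩ := hI d b hbd.symm
      obtain ⟨z', hz', -⟩ := hI d i (by rw [hic]; exact hcd.symm)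
      exact triple (norm_two_card (h2 a)) (norm_two_card (h2 b)) (norm_two_card (h2 i)) hk hx hy
        hx' hy' hz'
    · obtain ⟨x', hx', -⟩ := hI c a hac.symm
      obtain ⟨y', hy', -⟩ := hI c b hbc.symm
      obtain ⟨z', hz', -⟩ := hI c i (Ne.symm hic)
      exact triple (norm_two_card (h2 a)) (norm_two_card (h2 b)) (norm_two_card (h2 i)) hk hx hy
        hx' hy' hz'
  refine ⟨k, v a k, norm_two_unit (h2 a) hka, fun i => ?_⟩
  by_cases hia : v i = v a
  · rw [hia]
  obtain ⟨x, hx, hx'⟩ := hI i a hia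
  have : k ∈ sup (v i) ∩ sup (v a) := Finset.mem_inter.2 ⟨main i, main a⟩
  rw [hx, Finset.mem_singleton] at this
  rw [this]
  exact hx'

end star

end Cfsg.Agent.H92.ST
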