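import Cfsg.Agent.H33.PairCount
import Cfsg.Agent.Char.BrauerInduction
import Cfsg.Agent.H92.STa
import Cfsg.Agent.H92.STstar

/-!
# The exceptional character of the principal block (owner: helper92)
-/

set_option autoImplicit false
set_option linter.unusedSectionVars false
set_option linter.style.haveILetI false

universe u

namespace Cfsg.Agent.H92.ST

open scoped ComplexConjugate
open Cfsg Cfsg.Agent.CharBase Cfsg.Agent.Char Cfsg.Agent.H33

section ab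

variable {A : Type u} [Group A] [Fintype A]

/-- the complex conjugate character -/
noncomputable def cjI (ψ : IrrCharacter A) : IrrCharacter A :=
  ⟨fun a => conj ((ψ : A → ℂ) a), isIrrCharacter_conj ψ.2⟩

theorem cjI_apply (ψ : IrrCharacter A) (a : A) : (cjI ψ : A → ℂ) a = conj ((ψ : A → ℂ) a) := rfl

theorem cjI_ne (hA : ∀ a b : A, a * b = b * a) (hodd : Odd (Nat.card A)) {ψ : IrrCharacter A}
    (h : ψ ≠ oneIrr A) : cjI ψ ≠ ψ := by
  intro hc
  apply h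
  have h1 : (ψ : A → ℂ) 1 = 1 := BI.irr_comm_degree hA ψ.2
  have hch := irr_isCharacter ψ
  apply Subtype.ext
  funext a
  show (ψ : A → ℂ) a = 1
  have h2 : ∀ b : A, (ψ : A → ℂ) (b ^ 2) = 1 := by
    intro b
    rw [pow_two, linChar_mul hch h1]
    have h3 : conj ((ψ : A → ℂ) b) = (ψ : A → ℂ) b := by
      rw [← cjI_apply, hc]
    have h4 := linChar_mul_conj hch h1 b
    rwa [h3] at h4
  obtain ⟨k, hk⟩ := hodd
  have h5 : (a ^ (k + 1)) ^ 2 = a := by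
    rw [← pow_mul, show (k + 1) * 2 = Nat.card A + 1 by rw [hk]; ring, pow_succ, pow_card_eq_one',
      one_mul]
  rw [← h5]
  exact h2 _

theorem card_irr (hA : ∀ a b : A, a * b = b * a) : Nat.card (IrrCharacter A) = Nat.card A := by
  haveI := Fintype.ofFinite (IrrCharacter A)
  have h := sum_sq_degree (G := A)
  have h2 : ∀ χ : IrrCharacter A, (χ : A → ℂ) 1 = 1 := fun χ => BI.irr_comm_degree hA χ.2
  simp only [h2, one_pow, Finset.sum_const, Finset.card_univ, nsmul_eq_mul, mul_one] at h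
  rw [Nat.card_eq_fintype_card]
  exact_mod_cast h

end ab

section main

variable {G : Type u} [Group G] [Fintype G] {p : ℕ} [hp : Fact p.Prime] {P : Sylow p G}
  {M : Ideal AlgInt}

local notation "𝓟" => (Sylow.toSubgroup P)

theorem ppow (x : G) (hx : x ∈ P) : ∃ k, orderOf x = p ^ k := by
  obtain ⟨k, hk⟩ := (IsPGroup.iff_orderOf.1 P.isPGroup') ⟨x, hx⟩
  exact ⟨k, by rw [← hk]; exact (Subgroup.orderOf_mk x hx).symm⟩

theorem isPPart_self {x : G} (hx : ∃ k, orderOf x = p ^ k) : IsPPart p x x :=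
  ⟨1, mul_one x, Commute.one_right x, hx, by
    rw [orderOf_one]; exact fun h => hp.out.one_lt.ne' (Nat.dvd_one.1 h)⟩

open Classical in
theorem beta_P (h : Sit P) (hM : IsPModular p M) {x y : G} (hx : x ∈ P) (hy : y ∈ P) (hy1 : y ≠ 1) :
    beta M y x = (if x = y then (Nat.card 𝓟 : ℂ) else 0) + (if x = y⁻¹ then (Nat.card 𝓟 : ℂ) else 0) := by
  have hyy : y ≠ y⁻¹ := fun he => hy1 (h.eq_one_of_inv hy he)
  by_cases hc : IsConj x y
  · rw [beta_val hM (ppow y hy) hy1 (h.index_core hy hy1) (isPPart_self (ppow x hx)) hc,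
      h.cent_ppart hy]
    rcases (h.isConj_iff' hx hy).1 hc with h1 | h1
    · subst h1
      rw [if_pos rfl, if_neg hyy, add_zero]
    · have h2 : x = y⁻¹ := by rw [h1, inv_inv]
      rw [if_pos h2, if_neg (by rw [h2]; exact hyy.symm), zero_add]
  · rw [beta_zero hM (ppow y hy) (isPPart_self (ppow x hx)) hc, if_neg, if_neg, add_zero]
    · rintro rfl
      apply hc
      rw [h.isConj_iff' (inv_mem hy) hy]
      exact Or.inr (inv_inv y).symm
    · rintro rfl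
      exact hc (IsConj.refl _)

open Classical in
theorem gram [Fintype 𝓟] [Fintype (IrrCharacter G)] (h : Sit P) (hM : IsPModular p M) (f g : 𝓟 → ℂ)
    (hg : g 1 = 0) :
    ∑ χ : IrrCharacter G, (if χ ∈ principalBlock M G then
      classInner (fun x : 𝓟 => (χ : G → ℂ) x) f * conj (classInner (fun x : 𝓟 => (χ : G → ℂ) x) g) else 0)
      = classInner g f + classInner g (fun x => f x⁻¹) := by
  have hN : (Nat.card 𝓟 : ℂ) ≠ 0 := by exact_mod_cast Nat.card_pos.ne'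
  have h1 : ∀ χ : IrrCharacter G, (if χ ∈ principalBlock M G then
      classInner (fun x : 𝓟 => (χ : G → ℂ) x) f * conj (classInner (fun x : 𝓟 => (χ : G → ℂ) x) g) else 0)
      = ∑ y : 𝓟, ∑ x : 𝓟, (Nat.card 𝓟 : ℂ)⁻¹ * (Nat.card 𝓟 : ℂ)⁻¹ * (conj (f x) * g y) *
        (if χ ∈ principalBlock M G then (χ : G → ℂ) x * conj ((χ : G → ℂ) y) else 0) := by
    intro χ
    split_ifs with hχ
    · unfold classInner
      simp only [map_mul, map_sum, map_inv₀, map_natCast, Complex.conj_conj]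
      rw [mul_mul_mul_comm, Finset.sum_mul_sum,
        Finset.sum_comm, Finset.mul_sum]
      refine Finset.sum_congr rfl fun y _ => ?_
      rw [Finset.mul_sum]
      refine Finset.sum_congr rfl fun x _ => ?_
      ring
    · simp
  rw [Finset.sum_congr rfl fun χ _ => h1 χ, Finset.sum_comm]
  have h2 : ∀ y : 𝓟, ∑ χ : IrrCharacter G, ∑ x : 𝓟, (Nat.card 𝓟 : ℂ)⁻¹ * (Nat.card 𝓟 : ℂ)⁻¹ *
      (conj (f x) * g y) * (if χ ∈ principalBlock M G then (χ : G → ℂ) x * conj ((χ : G → ℂ) y) else 0)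
      = (Nat.card 𝓟 : ℂ)⁻¹ * (g y * conj (f y)) + (Nat.card 𝓟 : ℂ)⁻¹ * (g y * conj (f y⁻¹)) := by
    intro y
    rw [Finset.sum_comm]
    by_cases hy : y = 1
    · subst hy
      rw [hg]
      simp
    have hy1 : (y : G) ≠ 1 := fun he => hy (Subtype.ext he)
    have h3 : ∀ x : 𝓟, ∑ χ : IrrCharacter G, (Nat.card 𝓟 : ℂ)⁻¹ * (Nat.card 𝓟 : ℂ)⁻¹ *
      (conj (f x) * g y) * (if χ ∈ principalBlock M G then (χ : G → ℂ) x * conj ((χ : G → ℂ) y) else 0)
      = (if x = y then (Nat.card 𝓟 : ℂ)⁻¹ * (conj (f x) * g y) else 0) +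
        (if x = y⁻¹ then (Nat.card 𝓟 : ℂ)⁻¹ * (conj (f x) * g y) else 0) := by
      intro x
      rw [← Finset.mul_sum]
      have h4 : ∑ χ : IrrCharacter G, (if χ ∈ principalBlock M G then
          (χ : G → ℂ) x * conj ((χ : G → ℂ) y) else 0) = beta M (y : G) (x : G) := by
        unfold beta
        rw [Blk.finsum_mem_eq_sum_ite]
      rw [h4, beta_P h hM x.2 y.2 hy1]
      have e1 : ((x : G) = y) ↔ x = y := Subtype.ext_iff.symm
      have e2 : ((x : G) = (y : G)⁻¹) ↔ x = y⁻¹ := by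
        rw [Subtype.ext_iff]; rfl
      simp only [e1, e2]
      by_cases c1 : x = y
      · by_cases c2 : x = y⁻¹
        · simp only [if_pos c1, if_pos c2]
          field_simp
        · simp only [if_pos c1, if_neg c2, add_zero]
          field_simp
      · by_cases c2 : x = y⁻¹
        · simp only [if_neg c1, if_pos c2, zero_add]
          field_simp
        · simp only [if_neg c1, if_neg c2, add_zero, mul_zero]
    rw [Finset.sum_congr rfl fun x _ => h3 x, Finset.sum_add_distrib, Finset.sum_ite_eq',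
      Finset.sum_ite_eq', if_pos (Finset.mem_univ _), if_pos (Finset.mem_univ _)]
    ring
  rw [Finset.sum_congr rfl fun y _ => h2 y, Finset.sum_add_distrib, ← Finset.mul_sum,
    ← Finset.mul_sum]
  rfl

theorem one_sub_inner [Fintype 𝓟] {φ ψ : IrrCharacter 𝓟} (hφ : φ ≠ oneIrr 𝓟) (hψ : ψ ≠ oneIrr 𝓟) :
    classInner (fun x : 𝓟 => 1 - (φ : 𝓟 → ℂ) x) (fun x : 𝓟 => 1 - (ψ : 𝓟 → ℂ) x) =
      1 + (if φ = ψ then 1 else 0) := by
  classical
  have e : ∀ χ : IrrCharacter 𝓟, (fun x : 𝓟 => 1 - (χ : 𝓟 → ℂ) x) =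
      (oneIrr 𝓟 : 𝓟 → ℂ) - (χ : 𝓟 → ℂ) := fun χ => by
    funext x; simp
  rw [e, e, classInner_sub_left, classInner_sub_right, classInner_sub_right, classInner_irr,
    classInner_irr, classInner_irr, classInner_irr, if_pos rfl, if_neg hψ.symm, if_neg hφ]
  by_cases h : φ = ψ
  · rw [if_pos h]; norm_num
  · rw [if_neg h]; norm_num

theorem exists_out {α : Type*} [Fintype α] [DecidableEq α] (l : List α) (h : l.length < Fintype.card α) :
    ∃ x, x ∉ l := by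
  by_contra hcon
  push Not at hcon
  have h1 : l.toFinset = Finset.univ := Finset.eq_univ_of_forall (fun x => List.mem_toFinset.2 (hcon x))
  have h2 := List.toFinset_card_le l
  rw [h1, Finset.card_univ] at h2
  omega

open Classical in
theorem exists_chi (h : Sit P) (hM : IsPModular p M) (hN : 9 ≤ Nat.card 𝓟) :
    ∃ (χ : IrrCharacter G) (δ : ℤ), χ ∈ principalBlock M G ∧ χ ≠ oneIrr G ∧ (δ = 1 ∨ δ = -1) ∧
      ∀ x ∈ 𝓟, x ≠ 1 → (χ : G → ℂ) x = δ := by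
  haveI : Fintype 𝓟 := Fintype.ofFinite _
  haveI : Fintype (IrrCharacter G) := Fintype.ofFinite _
  haveI : Fintype (IrrCharacter 𝓟) := Fintype.ofFinite _
  haveI := hM.2.1.isPrime
  have hA : ∀ a b : 𝓟, a * b = b * a := fun a b => Subtype.ext (h.comm a a.2 b b.2)
  have hodd : Odd (Nat.card 𝓟) := by
    obtain ⟨k, hk⟩ := (IsPGroup.iff_card).1 P.isPGroup'
    rw [hk]
    exact (hp.out.odd_of_ne_two h.odd).pow
  have hcard : Fintype.card (IrrCharacter 𝓟) = Nat.card 𝓟 := by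
    rw [← card_irr hA, Nat.card_eq_fintype_card]
  have hres : ∀ χ : IrrCharacter G, IsCharacter 𝓟 (fun x : 𝓟 => (χ : G → ℂ) x) :=
    fun χ => isCharacter_restrict (irr_isCharacter χ) 𝓟
  choose n hn using fun (χ : IrrCharacter G) (ψ : IrrCharacter 𝓟) =>
    classInner_natCast (hres χ) (irr_isCharacter ψ)
  let r : IrrCharacter G → IrrCharacter 𝓟 → ℤ := fun χ ψ => (n χ (oneIrr 𝓟) : ℤ) - n χ ψ
  have hr : ∀ (χ : IrrCharacter G) (ψ : IrrCharacter 𝓟), classInner (fun x : 𝓟 => (χ : G → ℂ) x) (fun x : 𝓟 => 1 - (ψ : 𝓟 → ℂ) x) =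
      (r χ ψ : ℂ) := by
    intro χ ψ
    have e : (fun x : 𝓟 => 1 - (ψ : 𝓟 → ℂ) x) = (oneIrr 𝓟 : 𝓟 → ℂ) - (ψ : 𝓟 → ℂ) := by
      funext x; simp
    rw [e, classInner_sub_right, hn, hn]
    push_cast [r]
    ring
  have hr1 : ∀ ψ : IrrCharacter 𝓟, ψ ≠ oneIrr 𝓟 → r (oneIrr G) ψ = 1 := by
    intro ψ hψ
    have h1 := hr (oneIrr G) ψ
    have e : (fun x : 𝓟 => 1 - (ψ : 𝓟 → ℂ) x) = (oneIrr 𝓟 : 𝓟 → ℂ) - (ψ : 𝓟 → ℂ) := by
      funext x; simp
    have e2 : (fun x : 𝓟 => (oneIrr G : G → ℂ) x) = (oneIrr 𝓟 : 𝓟 → ℂ) := by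
      funext x; simp
    rw [e, e2, classInner_sub_right, classInner_irr, classInner_irr, if_pos rfl, if_neg hψ.symm] at h1
    have h2 : ((1 : ℤ) : ℂ) = (r (oneIrr G) ψ : ℂ) := by rw [← h1]; norm_num
    exact_mod_cast h2.symm
  -- the Gram matrix
  have hgram : ∀ ψ φ : IrrCharacter 𝓟, ψ ≠ oneIrr 𝓟 → φ ≠ oneIrr 𝓟 →
      ∑ χ : IrrCharacter G, (if χ ∈ principalBlock M G then r χ ψ * r χ φ else 0) =
        2 + (if φ = ψ then 1 else 0) + (if φ = cjI ψ then 1 else 0) := by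
    intro ψ φ hψ hφ
    have h1 := gram h hM (fun x : 𝓟 => 1 - (ψ : 𝓟 → ℂ) x) (fun x : 𝓟 => 1 - (φ : 𝓟 → ℂ) x) (by
      show 1 - (φ : 𝓟 → ℂ) 1 = 0
      rw [BI.irr_comm_degree hA φ.2, sub_self])
    have h2 : (fun x : 𝓟 => 1 - (ψ : 𝓟 → ℂ) x⁻¹) = (fun x : 𝓟 => 1 - (cjI ψ : 𝓟 → ℂ) x) := by
      funext x
      rw [irr_inv, cjI_apply]
    have hc : cjI ψ ≠ oneIrr 𝓟 := by
      intro hc
      apply hψ
      apply Subtype.ext
      funext x
      have h3 : conj ((ψ : 𝓟 → ℂ) x) = 1 := by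
        rw [← cjI_apply, hc, oneIrr_apply]
      have h4 := congrArg conj h3
      rw [Complex.conj_conj, map_one] at h4
      exact h4
    rw [h2, one_sub_inner hφ hψ, one_sub_inner hφ hc] at h1
    simp only [hr] at h1
    have h3 : ((∑ χ : IrrCharacter G, (if χ ∈ principalBlock M G then r χ ψ * r χ φ else 0) : ℤ) : ℂ) =
        ((2 + (if φ = ψ then 1 else 0) + (if φ = cjI ψ then 1 else 0) : ℤ) : ℂ) := by
      push_cast
      rw [show (2 + (if φ = ψ then 1 else 0) + (if φ = cjI ψ then 1 else 0) : ℂ) =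
        1 + (if φ = ψ then 1 else 0) + (1 + (if φ = cjI ψ then 1 else 0)) by ring, ← h1]
      refine Finset.sum_congr rfl fun χ _ => ?_
      split_ifs
      · rw [map_intCast]
      · rfl
    exact_mod_cast h3
  let ι := {ψ : IrrCharacter 𝓟 // ψ ≠ oneIrr 𝓟}
  let v : ι → IrrCharacter G → ℤ := fun ψ χ =>
    if χ ∈ principalBlock M G ∧ χ ≠ oneIrr G then r χ ψ.1 else 0
  have hv : ∀ ψ φ : ι, ∑ χ, v ψ χ * v φ χ =
      1 + (if φ.1 = ψ.1 then 1 else 0) + (if φ.1 = cjI ψ.1 then 1 else 0) := by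
    intro ψ φ
    have h1 := hgram ψ.1 φ.1 ψ.2 φ.2
    have h2 : ∑ χ, v ψ χ * v φ χ = ∑ χ : IrrCharacter G,
        ((if χ ∈ principalBlock M G then r χ ψ.1 * r χ φ.1 else 0) - (if χ = oneIrr G then 1 else 0)) := by
      refine Finset.sum_congr rfl fun χ _ => ?_
      by_cases h3 : χ = oneIrr G
      · subst h3
        simp only [v, ne_eq, not_true_eq_false, and_false, if_false, if_pos, Blk.oneIrr_mem_principalBlock,
          hr1 ψ.1 ψ.2, hr1 φ.1 φ.2]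
        simp
      · by_cases h4 : χ ∈ principalBlock M G
        · simp [v, h3, h4]
        · simp [v, h3, h4]
    rw [h2, Finset.sum_sub_distrib, h1, Finset.sum_ite_eq', if_pos (Finset.mem_univ _)]
    ring
  have hn2 : ∀ ψ : ι, ∑ χ, v ψ χ ^ 2 = 2 := by
    intro ψ
    have h1 := hv ψ ψ
    rw [if_pos rfl, if_neg (cjI_ne hA hodd ψ.2).symm] at h1
    simp only [pow_two]
    rw [h1]; norm_num
  have hcj : ∀ ψ φ : ι, φ.1 = cjI ψ.1 → v ψ = v φ := by
    intro ψ φ hc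
    have h1 : ∑ χ, (v ψ χ - v φ χ) ^ 2 = 0 := by
      have h2 : ∑ χ, (v ψ χ - v φ χ) ^ 2 = ∑ χ, v ψ χ ^ 2 - 2 * ∑ χ, v ψ χ * v φ χ + ∑ χ, v φ χ ^ 2 := by
        rw [Finset.mul_sum, ← Finset.sum_sub_distrib, ← Finset.sum_add_distrib]
        refine Finset.sum_congr rfl fun χ _ => ?_
        ring
      rw [h2, hn2, hn2, hv ψ φ, if_pos hc, if_neg (by rw [hc]; exact cjI_ne hA hodd ψ.2)]
      norm_num
    rw [Finset.sum_eq_zero_iff_of_nonneg (fun _ _ => sq_nonneg _)] at h1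
    funext χ
    have h2 := h1 χ (Finset.mem_univ _)
    have h3 := pow_eq_zero_iff (two_ne_zero) |>.1 h2
    linarith
  have h1v : ∀ ψ φ : ι, φ.1 ≠ ψ.1 → φ.1 ≠ cjI ψ.1 → ∑ χ, v ψ χ * v φ χ = 1 := by
    intro ψ φ h1 h2
    rw [hv, if_neg h1, if_neg h2]
    norm_num
  have hdich : ∀ ψ φ : ι, v ψ = v φ ∨ ∑ χ, v ψ χ * v φ χ = 1 := by
    intro ψ φ
    by_cases h1 : φ.1 = ψ.1
    · left
      rw [Subtype.ext h1]
    by_cases h2 : φ.1 = cjI ψ.1
    · exact Or.inl (hcj ψ φ h2)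
    · exact Or.inr (h1v ψ φ h1 h2)
  have hne : ∀ ψ φ : ι, φ.1 ≠ ψ.1 → φ.1 ≠ cjI ψ.1 → v ψ ≠ v φ := by
    intro ψ φ h1 h2 he
    have h3 := h1v ψ φ h1 h2
    have h4 := hn2 ψ
    rw [← he] at h3
    simp only [pow_two] at h4
    rw [h3] at h4
    norm_num at h4
  -- four distinct vectors
  obtain ⟨a, ha⟩ := exists_out [oneIrr 𝓟] (by rw [hcard]; show 1 < _; omega)
  obtain ⟨b, hb⟩ := exists_out [oneIrr 𝓟, a, cjI a] (by rw [hcard]; show 3 < _; omega)
  obtain ⟨c, hc⟩ := exists_out [oneIrr 𝓟, a, cjI a, b, cjI b] (by rw [hcard]; show 5 < _; omega)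
  obtain ⟨d, hd⟩ := exists_out [oneIrr 𝓟, a, cjI a, b, cjI b, c, cjI c] (by rw [hcard]; show 7 < _; omega)
  simp only [List.mem_cons, List.not_mem_nil, or_false, not_or] at ha hb hc hd
  obtain ⟨χ, δ, hδ, hχ⟩ := star v hn2 hdich ⟨a, ha⟩ ⟨b, hb.1⟩ ⟨c, hc.1⟩ ⟨d, hd.1⟩
    (hne _ _ hb.2.1 hb.2.2) (hne _ _ hc.2.1 hc.2.2.1) (hne _ _ hd.2.1 hd.2.2.1)
    (hne _ _ hc.2.2.2.1 hc.2.2.2.2) (hne _ _ hd.2.2.2.1 hd.2.2.2.2.1)
    (hne _ _ hd.2.2.2.2.2.1 hd.2.2.2.2.2.2)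
  have hδ0 : δ ≠ 0 := by rcases hδ with h1 | h1 <;> rw [h1] <;> norm_num
  have hχB : χ ∈ principalBlock M G ∧ χ ≠ oneIrr G := by
    by_contra hcon
    have := hχ ⟨a, ha⟩
    simp only [v, if_neg hcon] at this
    exact hδ0 this.symm
  have hrχ : ∀ ψ : IrrCharacter 𝓟, ψ ≠ oneIrr 𝓟 → (n χ ψ : ℤ) = n χ (oneIrr 𝓟) - δ := by
    intro ψ hψ
    have := hχ ⟨ψ, hψ⟩
    simp only [v, if_pos hχB, r] at this
    omega
  refine ⟨χ, δ, hχB.1, hχB.2, hδ, ?_⟩
  intro x hx hx1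
  have h1 := classFun_apply_eq_sum (isClassFunction_of_isCharacter (hres χ)) (⟨x, hx⟩ : 𝓟)
  simp only [hn] at h1
  have h2 : ∀ ψ : IrrCharacter 𝓟, (n χ ψ : ℂ) * (ψ : 𝓟 → ℂ) ⟨x, hx⟩ =
      ((n χ (oneIrr 𝓟) : ℂ) - δ) * ((ψ : 𝓟 → ℂ) 1 * (ψ : 𝓟 → ℂ) ⟨x, hx⟩) +
        (if ψ = oneIrr 𝓟 then (δ : ℂ) else 0) := by
    intro ψ
    rw [BI.irr_comm_degree hA ψ.2, one_mul]
    by_cases h3 : ψ = oneIrr 𝓟
    · subst h3
      rw [if_pos rfl, oneIrr_apply]
      ring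
    · rw [if_neg h3, add_zero]
      have h4 : (n χ ψ : ℂ) = (n χ (oneIrr 𝓟) : ℂ) - δ := by exact_mod_cast congrArg (Int.cast (R := ℂ)) (hrχ ψ h3)
      rw [h4]
  rw [h1, Finset.sum_congr rfl fun ψ _ => h2 ψ, Finset.sum_add_distrib, ← Finset.mul_sum,
    sum_degree_mul, if_neg (fun he => hx1 (congrArg Subtype.val he)), mul_zero, zero_add,
    Finset.sum_ite_eq', if_pos (Finset.mem_univ _)]

end main

end Cfsg.Agent.H92.ST
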