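import Mathlib
import Cfsg.Prelude.Def_Characters
import Cfsg.Prelude.Def_Blocks

/-!
# Power maps on nilpotent groups and `p`-parts as powers (owner: helper92)
-/

set_option autoImplicit false
set_option linter.unusedSectionVars false

universe u

namespace Cfsg.Agent.H92.ST

open Cfsg

/-- a power map which is the projection to a Hall factor is a homomorphism on a nilpotent group -/
theorem nil_pow {E : Type*} [Group E] [Finite E] (hE : Group.IsNilpotent E) {k : ℕ}
    (hk : ∀ q : ℕ, q.Prime → q ^ (Nat.card E).factorization q ∣ k ∨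
      k ≡ 1 [MOD q ^ (Nat.card E).factorization q]) (e f : E) : (e * f) ^ k = e ^ k * f ^ k := by
  obtain ⟨φ⟩ := ((Group.isNilpotent_of_finite_tfae (G := E)).out 0 4).1 hE
  have key : ∀ a b : (∀ p : (Nat.card E).primeFactors, ∀ P : Sylow p E, (↑P : Subgroup E)),
      (a * b) ^ k = a ^ k * b ^ k := by
    intro a b
    funext q P
    have : Fact (q : ℕ).Prime := ⟨Nat.prime_of_mem_primeFactors q.2⟩
    show (a q P * b q P) ^ k = a q P ^ k * b q P ^ k
    have hc : Nat.card P = (q : ℕ) ^ (Nat.card E).factorization q := P.card_eq_multiplicity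
    rcases hk q (Nat.prime_of_mem_primeFactors q.2) with h | h
    · have h1 : ∀ x : P, x ^ k = 1 := by
        intro x
        obtain ⟨m, hm⟩ := h
        have h2 : x ^ Nat.card P = 1 := pow_card_eq_one'
        rw [hm, ← hc, pow_mul, h2, one_pow]
      rw [h1, h1, h1, one_mul]
    · have h1 : ∀ x : P, x ^ k = x := by
        intro x
        conv_rhs => rw [← pow_one x]
        rw [pow_eq_pow_iff_modEq]
        exact h.of_dvd (hc ▸ orderOf_dvd_natCard x)
      rw [h1, h1, h1]
  have h1 := key (φ.symm e) (φ.symm f)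
  have h2 := congrArg φ h1
  simpa using h2

/-- exponents projecting onto the `p`-part and the `p'`-part -/
structure Exps (p n k k' : ℕ) : Prop where
  a1 : k ≡ 1 [MOD p ^ n.factorization p]
  a2 : (n / p ^ n.factorization p) ∣ k
  b1 : p ^ n.factorization p ∣ k'
  b2 : k' ≡ 1 [MOD n / p ^ n.factorization p]

theorem exists_exps {p n : ℕ} (hp : p.Prime) (hn : n ≠ 0) : ∃ k k', Exps p n k k' := by
  have hcop : Nat.Coprime (p ^ n.factorization p) (n / p ^ n.factorization p) :=
    (Nat.coprime_ordCompl hp hn).pow_left _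
  obtain ⟨k, hk1, hk2⟩ := Nat.chineseRemainder hcop 1 0
  obtain ⟨k', hk1', hk2'⟩ := Nat.chineseRemainder hcop 0 1
  exact ⟨k, k', hk1, (Nat.modEq_zero_iff_dvd).1 hk2, (Nat.modEq_zero_iff_dvd).1 hk1', hk2'⟩

namespace Exps

variable {p n k k' : ℕ}

theorem sum (h : Exps p n k k') (hp : p.Prime) (hn : n ≠ 0) : k + k' ≡ 1 [MOD n] := by
  have hcop : Nat.Coprime (p ^ n.factorization p) (n / p ^ n.factorization p) :=
    (Nat.coprime_ordCompl hp hn).pow_left _
  have h1 : k + k' ≡ 1 [MOD p ^ n.factorization p] := by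
    have := h.a1.add ((Nat.modEq_zero_iff_dvd).2 h.b1)
    simpa using this
  have h2 : k + k' ≡ 1 [MOD n / p ^ n.factorization p] := by
    have := ((Nat.modEq_zero_iff_dvd).2 h.a2).add h.b2
    simpa using this
  have h3 := (Nat.modEq_and_modEq_iff_modEq_mul hcop).1 ⟨h1, h2⟩
  rwa [Nat.ordProj_mul_ordCompl_eq_self] at h3

variable {G : Type*} [Group G] [Finite G]

/-- decomposition of an element whose order divides `n` -/
theorem mul_pow_eq (h : Exps p n k k') (hp : p.Prime) (hn : n ≠ 0) (g : G) (hg : orderOf g ∣ n) :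
    g ^ k * g ^ k' = g := by
  rw [← pow_add]
  conv_rhs => rw [← pow_one g]
  rw [pow_eq_pow_iff_modEq]
  exact (h.sum hp hn).of_dvd hg

theorem orderOf_pow_k (h : Exps p n k k') (hp : p.Prime) (g : G) (hg : orderOf g ∣ n) :
    ∃ j, orderOf (g ^ k) = p ^ j := by
  have h1 : (g ^ k) ^ p ^ n.factorization p = 1 := by
    obtain ⟨m, hm⟩ := h.a2
    rw [← pow_mul, hm, show n / p ^ n.factorization p * m * p ^ n.factorization p =
      (p ^ n.factorization p * (n / p ^ n.factorization p)) * m by ring,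
      Nat.ordProj_mul_ordCompl_eq_self, pow_mul, orderOf_dvd_iff_pow_eq_one.1 hg, one_pow]
  obtain ⟨j, _, hj⟩ := (Nat.dvd_prime_pow hp).1 (orderOf_dvd_of_pow_eq_one h1)
  exact ⟨j, hj⟩

theorem orderOf_pow_k' (h : Exps p n k k') (hp : p.Prime) (hn : n ≠ 0) (g : G)
    (hg : orderOf g ∣ n) : ¬ p ∣ orderOf (g ^ k') := by
  have h1 : (g ^ k') ^ (n / p ^ n.factorization p) = 1 := by
    obtain ⟨m, hm⟩ := h.b1
    rw [← pow_mul, hm, show p ^ n.factorization p * m * (n / p ^ n.factorization p) =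
      (p ^ n.factorization p * (n / p ^ n.factorization p)) * m by ring,
      Nat.ordProj_mul_ordCompl_eq_self, pow_mul, orderOf_dvd_iff_pow_eq_one.1 hg, one_pow]
  intro hd
  exact Nat.not_dvd_ordCompl hp hn (hd.trans (orderOf_dvd_of_pow_eq_one h1))

theorem isPPart (h : Exps p n k k') (hp : p.Prime) (hn : n ≠ 0) (g : G) (hg : orderOf g ∣ n) :
    IsPPart p g (g ^ k) :=
  ⟨g ^ k', h.mul_pow_eq hp hn g hg, (Commute.refl g).pow_pow k k', h.orderOf_pow_k hp g hg,
    h.orderOf_pow_k' hp hn g hg⟩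

/-- elements of `p`-power order are fixed by the `k`-th power -/
theorem pow_k_of_ppow (h : Exps p n k k') (hp : p.Prime) (hn : n ≠ 0) (g : G) (hg : orderOf g ∣ n)
    (hgp : ∃ j, orderOf g = p ^ j) : g ^ k = g := by
  obtain ⟨j, hj⟩ := hgp
  conv_rhs => rw [← pow_one g]
  rw [pow_eq_pow_iff_modEq]
  refine h.a1.of_dvd ?_
  rw [hj] at hg ⊢
  exact pow_dvd_pow p ((hp.pow_dvd_iff_le_factorization hn).1 hg)

theorem pow_k'_of_ppow (h : Exps p n k k') (hp : p.Prime) (hn : n ≠ 0) (g : G) (hg : orderOf g ∣ n)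
    (hgp : ∃ j, orderOf g = p ^ j) : g ^ k' = 1 := by
  obtain ⟨j, hj⟩ := hgp
  rw [← orderOf_dvd_iff_pow_eq_one]
  refine dvd_trans ?_ h.b1
  rw [hj] at hg ⊢
  exact pow_dvd_pow p ((hp.pow_dvd_iff_le_factorization hn).1 hg)

theorem pow_k_of_reg (h : Exps p n k k') (hp : p.Prime) (hn : n ≠ 0) (g : G) (hg : orderOf g ∣ n)
    (hgp : ¬ p ∣ orderOf g) : g ^ k = 1 := by
  rw [← orderOf_dvd_iff_pow_eq_one]
  refine dvd_trans ?_ h.a2
  have h1 : Nat.Coprime (orderOf g) (p ^ n.factorization p) :=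
    Nat.Coprime.pow_right _ ((Nat.Prime.coprime_iff_not_dvd hp).2 hgp).symm
  rw [← Nat.ordProj_mul_ordCompl_eq_self n p] at hg
  exact h1.dvd_of_dvd_mul_left hg

theorem pow_k'_of_reg (h : Exps p n k k') (hp : p.Prime) (hn : n ≠ 0) (g : G) (hg : orderOf g ∣ n)
    (hgp : ¬ p ∣ orderOf g) : g ^ k' = g := by
  have h1 := h.mul_pow_eq hp hn g hg
  rwa [h.pow_k_of_reg hp hn g hg hgp, one_mul] at h1

/-- the exponents are homomorphisms on nilpotent groups of order dividing `n` -/
theorem nil_k (h : Exps p n k k') (hp : p.Prime) (hn : n ≠ 0) (hG : Group.IsNilpotent G)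
    (hd : Nat.card G ∣ n) (e f : G) : (e * f) ^ k = e ^ k * f ^ k := by
  apply nil_pow hG
  intro q hq
  have hle : (Nat.card G).factorization q ≤ n.factorization q :=
    (Nat.factorization_le_iff_dvd Nat.card_pos.ne' hn).2 hd q
  by_cases hqp : q = p
  · subst hqp
    right
    exact h.a1.of_dvd (pow_dvd_pow q hle)
  · left
    refine dvd_trans (pow_dvd_pow q hle) (dvd_trans ?_ h.a2)
    have h1 : Nat.Coprime (q ^ n.factorization q) (p ^ n.factorization p) :=
      Nat.Coprime.pow _ _ ((Nat.coprime_primes hq hp).2 hqp)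
    have h2 : q ^ n.factorization q ∣ n := Nat.ordProj_dvd n q
    nth_rewrite 2 [← Nat.ordProj_mul_ordCompl_eq_self n p] at h2
    exact h1.dvd_of_dvd_mul_left h2

theorem nil_k' (h : Exps p n k k') (hp : p.Prime) (hn : n ≠ 0) (hG : Group.IsNilpotent G)
    (hd : Nat.card G ∣ n) (e f : G) : (e * f) ^ k' = e ^ k' * f ^ k' := by
  apply nil_pow hG
  intro q hq
  have hle : (Nat.card G).factorization q ≤ n.factorization q :=
    (Nat.factorization_le_iff_dvd Nat.card_pos.ne' hn).2 hd q
  by_cases hqp : q = p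
  · subst hqp
    left
    exact (pow_dvd_pow q hle).trans h.b1
  · right
    refine h.b2.of_dvd (dvd_trans (pow_dvd_pow q hle) ?_)
    have h1 : Nat.Coprime (q ^ n.factorization q) (p ^ n.factorization p) :=
      Nat.Coprime.pow _ _ ((Nat.coprime_primes hq hp).2 hqp)
    have h2 : q ^ n.factorization q ∣ n := Nat.ordProj_dvd n q
    nth_rewrite 2 [← Nat.ordProj_mul_ordCompl_eq_self n p] at h2
    exact h1.dvd_of_dvd_mul_left h2

end Exps

/-- elementary groups are nilpotent -/
theorem nilpotent_of_elementary {q : ℕ} (hq : q.Prime) {E : Type*} [Group E] [Finite E]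
    (h : IsElementary q E) : Group.IsNilpotent E := by
  haveI : Fact q.Prime := ⟨hq⟩
  obtain ⟨x, hx, -, k, hk⟩ := h
  have hle : Subgroup.zpowers x ≤ Subgroup.center E := by
    rwa [Subgroup.zpowers_le]
  haveI : (Subgroup.zpowers x).Normal := ⟨fun a ha g => by
    have := Subgroup.mem_center_iff.1 (hle ha) g
    rw [this, mul_assoc, mul_inv_cancel, mul_one]; exact ha⟩
  have hP : IsPGroup q (E ⧸ Subgroup.zpowers x) := by
    apply IsPGroup.of_card (n := k)
    rw [← hk]; rfl
  have hN : Group.IsNilpotent (E ⧸ Subgroup.zpowers x) := hP.isNilpotent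
  exact Subgroup.isNilpotent_of_ker_le_center (QuotientGroup.mk' (Subgroup.zpowers x)) (by rw [QuotientGroup.ker_mk']; exact hle)

end Cfsg.Agent.H92.ST
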