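import Cfsg.Agent.H92.STc
import Cfsg.Agent.H92.STpow

/-!
# Values on `p`-singular elements and the sizes of the `p`-sections (owner: helper92)
-/

set_option autoImplicit false
set_option linter.unusedSectionVars false
set_option linter.style.haveILetI false

universe u

namespace Cfsg.Agent.H92.ST

open scoped ComplexConjugate
open Cfsg Cfsg.Agent.CharBase Cfsg.Agent.Char Cfsg.Agent.H33

section sing

variable {G : Type u} [Group G] [Fintype G] {p : ℕ} [hp : Fact p.Prime] {P : Sylow p G}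
  {M : Ideal AlgInt}

local notation "𝓟" => (Sylow.toSubgroup P)

/-- `p`-elements are conjugate into `P` -/
theorem exists_conj_mem (P : Sylow p G) {a : G} (ha : ∃ j, orderOf a = p ^ j) :
    ∃ c : G, c * a * c⁻¹ ∈ P.toSubgroup := by
  obtain ⟨j, hj⟩ := ha
  have h1 : IsPGroup p (Subgroup.zpowers a) := by
    apply IsPGroup.of_card (n := j)
    rw [Nat.card_zpowers, hj]
  obtain ⟨Q, hQ⟩ := h1.exists_le_sylow
  obtain ⟨c, hc⟩ := MulAction.exists_smul_eq G Q P
  refine ⟨c, ?_⟩
  have h2 : a ∈ Q := hQ (Subgroup.mem_zpowers a)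
  have h3 : c * a * c⁻¹ ∈ (c • Q : Sylow p G).toSubgroup :=
    Subgroup.smul_mem_pointwise_smul a (MulAut.conj c) Q.toSubgroup h2
  rw [hc] at h3
  exact h3

/-- values at `p`-singular elements -/
theorem chi_sing (h : Sit P) (hM : IsPModular p M) {χ : IrrCharacter G} (hχ : χ ∈ principalBlock M G)
    {δ : ℤ} (hv : ∀ x ∈ 𝓟, x ≠ 1 → (χ : G → ℂ) x = δ) {g a : G} (ha : IsPPart p g a) (ha1 : a ≠ 1) :
    (χ : G → ℂ) g = δ := by
  obtain ⟨c, hc⟩ := exists_conj_mem P (a := a) (by obtain ⟨_, _, _, h1, _⟩ := ha; exact h1)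
  have h1 := BlkInd.isPPart_conj ha c
  rw [← irr_isClassFunction χ g c]
  have hx1 : c * a * c⁻¹ ≠ 1 := by
    intro he
    apply ha1
    have : a = c⁻¹ * (c * a * c⁻¹) * c := by group
    rw [this, he]; group
  obtain ⟨u, hu, hcom, -, hreg⟩ := h1
  rw [← hu]
  have huC : u ∈ Subgroup.centralizer ({c * a * c⁻¹} : Set G) :=
    Subgroup.mem_centralizer_singleton_iff.2 hcom.eq.symm
  have hucore : u ∈ centralizerPPrimeCore p (c * a * c⁻¹) := by
    obtain ⟨k, hk⟩ := h.index_core hc hx1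
    refine ⟨⟨u, huC⟩, ?_, rfl⟩
    apply H4.mem_of_regular_of_index hk
    rwa [Subgroup.orderOf_mk]
  rw [S0942.result p M hM _ (ppow _ hc) u hucore χ hχ]
  exact hv _ hc hx1

variable {n k k' : ℕ}

open Classical in
/-- sizes of the `p`-sections -/
theorem count_pp (h : Sit P) (hM : IsPModular p M) (hE : Exps p n k k') (hn : n ≠ 0)
    (hd : ∀ g : G, orderOf g ∣ n) {x : G} (hx : x ∈ 𝓟) (hx1 : x ≠ 1) :
    (Nat.card 𝓟 : ℂ) * ((Finset.univ.filter (fun g : G => IsConj (g ^ k) x)).card : ℂ) =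
      (Nat.card G : ℂ) := by
  haveI : Fintype (IrrCharacter G) := Fintype.ofFinite _
  haveI := hM.2.1.isPrime
  have h1 : ∑ g : G, beta M x g = (Nat.card G : ℂ) := by
    unfold beta
    simp only [Blk.finsum_mem_eq_sum_ite]
    rw [Finset.sum_comm]
    have h2 : ∀ χ : IrrCharacter G, ∑ g : G, (if χ ∈ principalBlock M G then
        (χ : G → ℂ) g * conj ((χ : G → ℂ) x) else 0) =
        if χ = oneIrr G then (Nat.card G : ℂ) else 0 := by
      intro χ
      have h3 := classInner_irr χ (oneIrr G)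
      unfold classInner at h3
      simp only [oneIrr_apply, map_one, mul_one] at h3
      have hG : (Nat.card G : ℂ) ≠ 0 := by exact_mod_cast Nat.card_pos.ne'
      have h4 : ∑ g : G, (χ : G → ℂ) g = (Nat.card G : ℂ) * if χ = oneIrr G then 1 else 0 := by
        rw [← h3, mul_inv_cancel_left₀ hG]
      by_cases h5 : χ = oneIrr G
      · subst h5
        rw [if_pos rfl]
        simp only [if_pos (Blk.oneIrr_mem_principalBlock), oneIrr_apply, map_one, mul_one,
          Finset.sum_const, Finset.card_univ, nsmul_eq_mul, Nat.card_eq_fintype_card]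
      · rw [if_neg h5]
        by_cases h6 : χ ∈ principalBlock M G
        · simp only [if_pos h6]
          rw [← Finset.sum_mul, h4, if_neg h5, mul_zero, zero_mul]
        · simp only [if_neg h6, Finset.sum_const_zero]
    rw [Finset.sum_congr rfl fun χ _ => h2 χ, Finset.sum_ite_eq', if_pos (Finset.mem_univ _)]
  rw [← h1]
  have h2 : ∀ g : G, beta M x g = if IsConj (g ^ k) x then (Nat.card 𝓟 : ℂ) else 0 := by
    intro g
    have hpp := hE.isPPart hp.out hn g (hd g)
    by_cases hc : IsConj (g ^ k) x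
    · rw [if_pos hc, beta_val hM (ppow x hx) hx1 (h.index_core hx hx1) hpp hc, h.cent_ppart hx]
    · rw [if_neg hc, beta_zero hM (ppow x hx) hpp hc]
  rw [Finset.sum_congr rfl fun g _ => h2 g, ← Finset.sum_filter, Finset.sum_const, nsmul_eq_mul,
    mul_comm]

open Classical in
theorem count_R_sharp (h : Sit P) (hM : IsPModular p M) (hE : Exps p n k k') (hn : n ≠ 0)
    (hd : ∀ g : G, orderOf g ∣ n) {R : Subgroup G} (hR : R ≤ 𝓟) :
    (2 * Nat.card 𝓟 : ℂ) *
      ((Finset.univ.filter (fun g : G => ∃ x ∈ R, x ≠ 1 ∧ IsConj (g ^ k) x)).card : ℂ) =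
      ((Nat.card R : ℂ) - 1) * (Nat.card G : ℂ) := by
  have h1 : ∀ g : G, ((Finset.univ.filter (fun x : G => x ∈ R ∧ x ≠ 1 ∧ IsConj (g ^ k) x)).card : ℂ) =
      2 * (if ∃ x ∈ R, x ≠ 1 ∧ IsConj (g ^ k) x then 1 else 0) := by
    intro g
    by_cases hg : ∃ x ∈ R, x ≠ 1 ∧ IsConj (g ^ k) x
    · rw [if_pos hg]
      obtain ⟨x, hx, hx1, hc⟩ := hg
      have hne : x ≠ x⁻¹ := fun he => hx1 (h.eq_one_of_inv (hR hx) he)
      have h2 : Finset.univ.filter (fun x : G => x ∈ R ∧ x ≠ 1 ∧ IsConj (g ^ k) x) = {x, x⁻¹} := by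
        ext y
        simp only [Finset.mem_filter, Finset.mem_univ, true_and, Finset.mem_insert,
          Finset.mem_singleton]
        constructor
        · rintro ⟨hy, hy1, hyc⟩
          exact (h.isConj_iff' (hR hx) (hR hy)).1 (hc.symm.trans hyc)
        · rintro (rfl | rfl)
          · exact ⟨hx, hx1, hc⟩
          · exact ⟨inv_mem hx, inv_ne_one.2 hx1,
              hc.trans ((h.isConj_iff' (hR hx) (inv_mem (hR hx))).2 (Or.inr rfl))⟩
      rw [h2, Finset.card_pair hne]
      norm_num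
    · rw [if_neg hg, mul_zero]
      have h2 : Finset.univ.filter (fun x : G => x ∈ R ∧ x ≠ 1 ∧ IsConj (g ^ k) x) = ∅ := by
        rw [Finset.filter_eq_empty_iff]
        intro x _ hx
        exact hg ⟨x, hx.1, hx.2.1, hx.2.2⟩
      rw [h2]; simp
  have h3 : ∑ g : G, ((Finset.univ.filter (fun x : G => x ∈ R ∧ x ≠ 1 ∧ IsConj (g ^ k) x)).card : ℂ) =
      2 * ((Finset.univ.filter (fun g : G => ∃ x ∈ R, x ≠ 1 ∧ IsConj (g ^ k) x)).card : ℂ) := by
    rw [Finset.sum_congr rfl fun g _ => h1 g, ← Finset.mul_sum, Finset.sum_boole]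
  have h4 : ∑ g : G, ((Finset.univ.filter (fun x : G => x ∈ R ∧ x ≠ 1 ∧ IsConj (g ^ k) x)).card : ℂ) =
      ∑ x ∈ Finset.univ.filter (fun x : G => x ∈ R ∧ x ≠ 1),
        ((Finset.univ.filter (fun g : G => IsConj (g ^ k) x)).card : ℂ) := by
    have e1 : ∀ g : G, ((Finset.univ.filter (fun x : G => x ∈ R ∧ x ≠ 1 ∧ IsConj (g ^ k) x)).card : ℂ) =
        ∑ x : G, if (x ∈ R ∧ x ≠ 1) ∧ IsConj (g ^ k) x then 1 else 0 := by
      intro g
      rw [Finset.sum_boole]
      simp only [and_assoc]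
    have e2 : ∀ x : G, ((Finset.univ.filter (fun g : G => IsConj (g ^ k) x)).card : ℂ) =
        ∑ g : G, if IsConj (g ^ k) x then 1 else 0 := by
      intro x
      rw [Finset.sum_boole]
    rw [Finset.sum_congr rfl fun g _ => e1 g, Finset.sum_comm, Finset.sum_filter]
    refine Finset.sum_congr rfl fun x _ => ?_
    by_cases hx : x ∈ R ∧ x ≠ 1
    · rw [if_pos hx, e2]
      refine Finset.sum_congr rfl fun g _ => ?_
      simp only [hx, true_and, ne_eq, not_false_eq_true, and_self]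
    · rw [if_neg hx]
      refine Finset.sum_eq_zero fun g _ => ?_
      rw [if_neg (fun hh => hx hh.1)]
  have h5 : (Nat.card 𝓟 : ℂ) * ∑ x ∈ Finset.univ.filter (fun x : G => x ∈ R ∧ x ≠ 1),
        ((Finset.univ.filter (fun g : G => IsConj (g ^ k) x)).card : ℂ) =
      ((Finset.univ.filter (fun x : G => x ∈ R ∧ x ≠ 1)).card : ℂ) * (Nat.card G : ℂ) := by
    rw [Finset.mul_sum, ← nsmul_eq_mul, ← Finset.sum_const]
    refine Finset.sum_congr rfl fun x hx => ?_
    rw [Finset.mem_filter] at hx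
    exact count_pp h hM hE hn hd (hR hx.2.1) hx.2.2
  have h6 : ((Finset.univ.filter (fun x : G => x ∈ R ∧ x ≠ 1)).card : ℂ) = (Nat.card R : ℂ) - 1 := by
    have e1 : Finset.univ.filter (fun x : G => x ∈ R ∧ x ≠ 1) =
        (Finset.univ.filter (fun x : G => x ∈ R)).erase 1 := by
      ext x
      simp only [Finset.mem_filter, Finset.mem_univ, true_and, Finset.mem_erase]
      tauto
    have e2 : (Finset.univ.filter (fun x : G => x ∈ R)).card = Nat.card R := by
      rw [Nat.card_eq_fintype_card, Fintype.card_subtype]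
    rw [e1, Finset.card_erase_of_mem (by simp [one_mem]), e2, Nat.cast_sub Nat.card_pos]
    simp
  rw [h6, ← h4, h3] at h5
  linear_combination h5

open Classical in
theorem count_R (h : Sit P) (hM : IsPModular p M) (hE : Exps p n k k') (hn : n ≠ 0)
    (hd : ∀ g : G, orderOf g ∣ n) {R : Subgroup G} (hR : R ≤ 𝓟) :
    (2 * Nat.card 𝓟 : ℂ) *
      ((Finset.univ.filter (fun g : G => ∃ x ∈ R, IsConj (g ^ k) x)).card : ℂ) =
      ((Nat.card 𝓟 : ℂ) + (Nat.card R : ℂ)) * (Nat.card G : ℂ) := by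
  have h1 := count_R_sharp h hM hE hn hd hR
  have h2 := count_R_sharp h hM hE hn hd (le_refl 𝓟)
  have h3 : ((Finset.univ.filter (fun g : G => ∃ x ∈ 𝓟, x ≠ 1 ∧ IsConj (g ^ k) x)).card : ℂ) =
      (Nat.card G : ℂ) - ((Finset.univ.filter (fun g : G => g ^ k = 1)).card : ℂ) := by
    have e1 : Finset.univ.filter (fun g : G => ∃ x ∈ 𝓟, x ≠ 1 ∧ IsConj (g ^ k) x) =
        Finset.univ.filter (fun g : G => ¬ g ^ k = 1) := by
      ext g
      simp only [Finset.mem_filter, Finset.mem_univ, true_and]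
      constructor
      · rintro ⟨x, -, hx1, hc⟩ he
        rw [he] at hc
        exact hx1 (isConj_one_right.1 hc)
      · intro hg
        obtain ⟨c, hc⟩ := exists_conj_mem P (hE.orderOf_pow_k hp.out g (hd g))
        refine ⟨_, hc, ?_, isConj_iff.2 ⟨c, rfl⟩⟩
        intro he
        apply hg
        have : g ^ k = c⁻¹ * (c * g ^ k * c⁻¹) * c := by group
        rw [this, he]; group
    have e2 := Finset.card_filter_add_card_filter_not (s := (Finset.univ : Finset G))
      (fun g : G => g ^ k = 1)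
    rw [e1, eq_sub_iff_add_eq, add_comm]
    rw [Finset.card_univ, ← Nat.card_eq_fintype_card] at e2
    exact_mod_cast e2
  have h4 : ((Finset.univ.filter (fun g : G => ∃ x ∈ R, IsConj (g ^ k) x)).card : ℂ) =
      ((Finset.univ.filter (fun g : G => g ^ k = 1)).card : ℂ) +
      ((Finset.univ.filter (fun g : G => ∃ x ∈ R, x ≠ 1 ∧ IsConj (g ^ k) x)).card : ℂ) := by
    have e1 : Finset.univ.filter (fun g : G => ∃ x ∈ R, IsConj (g ^ k) x) =
        Finset.univ.filter (fun g : G => g ^ k = 1) ∪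
          Finset.univ.filter (fun g : G => ∃ x ∈ R, x ≠ 1 ∧ IsConj (g ^ k) x) := by
      ext g
      simp only [Finset.mem_filter, Finset.mem_univ, true_and, Finset.mem_union]
      constructor
      · rintro ⟨x, hx, hc⟩
        by_cases hx1 : x = 1
        · left
          rw [hx1] at hc
          exact isConj_one_left.1 hc
        · exact Or.inr ⟨x, hx, hx1, hc⟩
      · rintro (hg | ⟨x, hx, -, hc⟩)
        · exact ⟨1, one_mem _, by rw [hg]⟩
        · exact ⟨x, hx, hc⟩
    rw [e1, Finset.card_union_of_disjoint]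
    · push_cast; rfl
    · rw [Finset.disjoint_filter]
      rintro g _ hg ⟨x, _, hx1, hc⟩
      rw [hg] at hc
      exact hx1 (isConj_one_right.1 hc)
  rw [h3] at h2
  rw [h4]
  linear_combination h1 - h2

end sing

end Cfsg.Agent.H92.ST
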