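import Cfsg.Agent.H92.STa

/-!
# The central extension: fusion of the radical (owner: helper92)
-/

set_option autoImplicit false
set_option linter.unusedSectionVars false
set_option linter.style.haveILetI false

universe u

namespace Cfsg.Agent.H92.ST

open scoped ComplexConjugate

/-- the standard character of `C_p` -/
theorem exists_L0 (p : ℕ) [hp : Fact p.Prime] : ∃ L0 : Multiplicative (ZMod p) →* ℂ,
    ∀ z, z ≠ 1 → L0 z ≠ 1 := by
  refine ⟨(ZMod.stdAddChar (N := p)).toMonoidHom, ?_⟩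
  intro z hz h1
  apply hz
  have h2 : (ZMod.stdAddChar (N := p)) z.toAdd = (ZMod.stdAddChar (N := p)) 0 := by
    rw [AddChar.map_zero_eq_one]
    exact h1
  have h3 := ZMod.injective_stdAddChar h2
  exact h3

section cov

variable {G : Type u} [Group G] [Finite G] {p : ℕ} [hp : Fact p.Prime] (P : Sylow p G)
  (R : Subgroup G) {E : Type u} [Group E] [Finite E]

/-- the covering data -/
structure Cov (π : E →* G) (ζ : Multiplicative (ZMod p) →* E) : Prop where
  surj : Function.Surjective π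
  inj : Function.Injective ζ
  ker : π.ker = ζ.range
  cen : ∀ z e, ζ z * e = e * ζ z
  le : R ≤ P.toSubgroup
  card : Nat.card P.toSubgroup = p ^ 2 * Nat.card R
  rad : ∀ x y, π x ∈ R → π y ∈ P.toSubgroup → x * y = y * x
  nondeg : ∀ x, π x ∈ P.toSubgroup → π x ∉ R → ∃ y z, π y ∈ P.toSubgroup ∧ z ≠ 1 ∧
    x * y = y * x * ζ z

variable {P R} {π : E →* G} {ζ : Multiplicative (ZMod p) →* E}

namespace Cov

theorem mem_range (h : Cov P R π ζ) {e : E} (he : π e = 1) : ∃ z, ζ z = e := by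
  have : e ∈ π.ker := he
  rw [h.ker] at this
  exact this

theorem pi_zeta (h : Cov P R π ζ) (z : Multiplicative (ZMod p)) : π (ζ z) = 1 := by
  have : ζ z ∈ π.ker := by
    rw [h.ker]; exact ⟨z, rfl⟩
  exact this

theorem card_E (h : Cov P R π ζ) : Nat.card E = p * Nat.card G := by
  have h1 := π.ker.card_mul_index
  rw [Subgroup.index_ker, MonoidHom.range_eq_top.2 h.surj, Subgroup.card_top, h.ker] at h1
  rw [← h1]
  congr 1
  have h2 : Nat.card (Multiplicative (ZMod p)) = Nat.card ζ.range :=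
    Nat.card_congr (MonoidHom.ofInjective h.inj).toEquiv
  rw [← h2]
  exact Nat.card_zmod p

theorem zpow_p (z : Multiplicative (ZMod p)) : z ^ p = 1 := by
  have h1 : Nat.card (Multiplicative (ZMod p)) = p := Nat.card_zmod p
  have h2 : z ^ Nat.card (Multiplicative (ZMod p)) = 1 := pow_card_eq_one'
  rwa [h1] at h2

/-- (L1) elements over the radical are centralized by the full preimage of the centralizer -/
theorem cent (h : Cov P R π ζ) (hS : Sit P) {y e : E} (hy : π y ∈ R)
    (he : π e * π y = π y * π e) : e * y = y * e := by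
  let C : Subgroup E := (Subgroup.centralizer ({π y} : Set G)).comap π
  let K : Subgroup E := Subgroup.centralizer ({y} : Set E)
  let Ph : Subgroup E := P.toSubgroup.comap π
  have hPK : Ph ≤ K := by
    intro u hu
    rw [Subgroup.mem_centralizer_singleton_iff]
    exact (h.rad y u hy hu).symm
  have hKC : K ≤ C := by
    intro u hu
    rw [Subgroup.mem_comap, Subgroup.mem_centralizer_singleton_iff, ← map_mul, ← map_mul,
      Subgroup.mem_centralizer_singleton_iff.1 hu]
  have hz : ∀ u : C, ∃ z, ζ z = y⁻¹ * ((u : E)⁻¹ * y * u) := by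
    intro u
    apply h.mem_range
    have hu : π u * π y = π y * π u := Subgroup.mem_centralizer_singleton_iff.1 u.2
    rw [map_mul, map_mul, map_mul, map_inv, map_inv, mul_assoc (π (u : E))⁻¹, ← hu]
    group
  choose f hf using hz
  have hf' : ∀ u : C, (u : E)⁻¹ * y * u = y * ζ (f u) := by
    intro u
    rw [hf]; group
  let F : C →* Multiplicative (ZMod p) :=
    { toFun := f
      map_one' := by
        apply h.inj
        rw [hf, map_one]
        show y⁻¹ * ((1 : E)⁻¹ * y * 1) = 1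
        group
      map_mul' := by
        intro u v
        apply h.inj
        rw [map_mul, hf]
        have h1 : ((u * v : C) : E)⁻¹ * y * ((u * v : C) : E) = (v : E)⁻¹ * ((u : E)⁻¹ * y * u) * v := by
          rw [Subgroup.coe_mul]; group
        rw [h1, hf' u]
        have h2 : (v : E)⁻¹ * (y * ζ (f u)) * v = ((v : E)⁻¹ * y * v) * ζ (f u) := by
          rw [mul_assoc, mul_assoc y, h.cen]; group
        rw [h2, hf' v, mul_assoc y, ← map_mul, mul_comm (f v), map_mul]
        group }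
  have hker : F.ker = K.subgroupOf C := by
    ext u
    rw [MonoidHom.mem_ker, Subgroup.mem_subgroupOf, Subgroup.mem_centralizer_singleton_iff]
    constructor
    · intro h1
      have h2 := hf' u
      have h3 : f u = 1 := h1
      rw [h3, map_one, mul_one] at h2
      calc (u : E) * y = (u : E) * ((u : E)⁻¹ * y * u) := by rw [h2]
        _ = y * u := by group
    · intro h1
      apply h.inj
      show ζ (f u) = ζ 1
      rw [hf, map_one, mul_assoc (u : E)⁻¹, ← h1]
      group
  have h1 : K.relIndex C ∣ p := by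
    show (K.subgroupOf C).index ∣ p
    rw [← hker, Subgroup.index_ker]
    have := Subgroup.card_subgroup_dvd_card F.range
    rwa [show Nat.card (Multiplicative (ZMod p)) = p from Nat.card_zmod p] at this
  have h2 : K.relIndex C ∣ P.toSubgroup.index := by
    have e1 : Ph.index = P.toSubgroup.index := Subgroup.index_comap_of_surjective _ h.surj
    rw [← e1, ← Subgroup.relIndex_mul_index (hPK.trans hKC), ← Subgroup.relIndex_mul_relIndex _ _ _ hPK hKC]
    exact Dvd.dvd.mul_right (Dvd.intro_left _ rfl) _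
  have h3 : K.relIndex C = 1 := by
    rcases (Nat.dvd_prime hp.out).1 h1 with h4 | h4
    · exact h4
    · exfalso
      rw [h4] at h2
      exact P.not_dvd_index h2
  have h4 : C ≤ K := Subgroup.relIndex_eq_one.1 h3
  have h5 : e ∈ C := by
    rw [Subgroup.mem_comap, Subgroup.mem_centralizer_singleton_iff]
    exact he
  exact Subgroup.mem_centralizer_singleton_iff.1 (h4 h5)

end Cov

open Classical in
/-- the central character as a function on `E` -/
noncomputable def Lf (ζ : Multiplicative (ZMod p) →* E) (L0 : Multiplicative (ZMod p) →* ℂ) (e : E) : ℂ :=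
  if h : ∃ z, ζ z = e then L0 h.choose else 0

theorem Lf_zeta (hi : Function.Injective ζ) (L0 : Multiplicative (ZMod p) →* ℂ)
    (z : Multiplicative (ZMod p)) : Lf ζ L0 (ζ z) = L0 z := by
  have h : ∃ w, ζ w = ζ z := ⟨z, rfl⟩
  unfold Lf
  rw [dif_pos h]
  congr 1
  exact hi h.choose_spec

theorem Lf_zero (h : Cov P R π ζ) (L0 : Multiplicative (ZMod p) →* ℂ) {e : E} (he : π e ≠ 1) :
    Lf ζ L0 e = 0 := by
  unfold Lf
  rw [dif_neg]
  rintro ⟨z, rfl⟩
  exact he (h.pi_zeta z)

theorem L0_pow (L0 : Multiplicative (ZMod p) →* ℂ) (z : Multiplicative (ZMod p)) : L0 z ^ p = 1 := by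
  rw [← map_pow, Cov.zpow_p, map_one]

theorem L0_norm (L0 : Multiplicative (ZMod p) →* ℂ) (z : Multiplicative (ZMod p)) : ‖L0 z‖ = 1 :=
  Complex.norm_eq_one_of_pow_eq_one (L0_pow L0 z) hp.out.ne_zero

theorem L0_mul_conj (L0 : Multiplicative (ZMod p) →* ℂ) (z : Multiplicative (ZMod p)) :
    L0 z * conj (L0 z) = 1 := by
  rw [Complex.mul_conj, Complex.normSq_eq_norm_sq, L0_norm]
  norm_num

/-- the element `y^t y` -/
def sf (t y : E) : E := t⁻¹ * y * t * y

/-- the linear character of the radical -/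
noncomputable def om (ζ : Multiplicative (ZMod p) →* E) (L0 : Multiplicative (ZMod p) →* ℂ) (t y : E) : ℂ :=
  Lf ζ L0 (sf t y ^ ((p + 1) / 2))

section om

variable (h : Cov P R π ζ) (hS : Sit P) (L0 : Multiplicative (ZMod p) →* ℂ) {t : E}
  (ht : ∀ x ∈ P.toSubgroup, (π t)⁻¹ * x * π t = x⁻¹)

include h ht

theorem pi_sf {y : E} (hy : π y ∈ R) : π (sf t y) = 1 := by
  unfold sf
  rw [map_mul, map_mul, map_mul, map_inv, ht _ (h.le hy), inv_mul_cancel]

theorem pi_inv {y : E} (hy : π y ∈ R) : π (t⁻¹ * y * t) = (π y)⁻¹ := by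
  rw [map_mul, map_mul, map_inv, ht _ (h.le hy)]

theorem sf_mul {y1 y2 : E} (h1 : π y1 ∈ R) (h2 : π y2 ∈ R) : sf t (y1 * y2) = sf t y1 * sf t y2 := by
  have h3 : (t⁻¹ * y2 * t) * y1 = y1 * (t⁻¹ * y2 * t) := by
    apply h.rad
    · rw [pi_inv h ht h2]; exact inv_mem h2
    · exact h.le h1
  unfold sf
  calc t⁻¹ * (y1 * y2) * t * (y1 * y2) = t⁻¹ * y1 * t * ((t⁻¹ * y2 * t) * y1) * y2 := by group
    _ = t⁻¹ * y1 * t * (y1 * (t⁻¹ * y2 * t)) * y2 := by rw [h3]
    _ = _ := by group

omit ht in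
theorem om_zeta (hodd : p ≠ 2) (z : Multiplicative (ZMod p)) : om ζ L0 t (ζ z) = L0 z := by
  unfold om sf
  have h1 : t⁻¹ * ζ z * t * ζ z = ζ (z * z) := by
    rw [mul_assoc t⁻¹, h.cen z t, map_mul]; group
  rw [h1, ← map_pow, Lf_zeta h.inj]
  congr 1
  have h2 : Odd p := hp.out.odd_of_ne_two hodd
  obtain ⟨m, hm⟩ := h2
  have h3 : (p + 1) / 2 * 2 = p + 1 := by omega
  rw [← pow_two, ← pow_mul, mul_comm, h3, pow_succ, Cov.zpow_p, one_mul]

theorem exists_sf {y : E} (hy : π y ∈ R) : ∃ z, ζ z = sf t y := h.mem_range (pi_sf h ht hy)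

theorem om_mul {y1 y2 : E} (h1 : π y1 ∈ R) (h2 : π y2 ∈ R) :
    om ζ L0 t (y1 * y2) = om ζ L0 t y1 * om ζ L0 t y2 := by
  unfold om
  rw [sf_mul h ht h1 h2]
  obtain ⟨z1, e1⟩ := exists_sf h ht h1
  obtain ⟨z2, e2⟩ := exists_sf h ht h2
  rw [← e1, ← e2, ← map_mul, ← map_pow, ← map_pow, ← map_pow, Lf_zeta h.inj, Lf_zeta h.inj,
    Lf_zeta h.inj, mul_pow, map_mul]

theorem om_norm {y : E} (h1 : π y ∈ R) : om ζ L0 t y * conj (om ζ L0 t y) = 1 := by
  unfold om
  obtain ⟨z1, e1⟩ := exists_sf h ht h1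
  rw [← e1, ← map_pow, Lf_zeta h.inj]
  exact L0_mul_conj L0 _

include hS

/-- (L3) invariance under fusion -/
theorem om_fus {y e : E} (hy : π y ∈ R) (hy' : π (e⁻¹ * y * e) ∈ R) :
    om ζ L0 t (e⁻¹ * y * e) = om ζ L0 t y := by
  have hP1 : (π e)⁻¹ * π y * π e ∈ P := by
    have := h.le hy'
    rwa [map_mul, map_mul, map_inv] at this
  rcases hS.fus_elt (h.le hy) hP1 with h1 | h1
  · have h2 : e * y = y * e := by
      apply h.cent hS hy
      calc π e * π y = π e * ((π e)⁻¹ * π y * π e) := by rw [h1]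
        _ = π y * π e := by group
    have h3 : e⁻¹ * y * e = y := by
      rw [mul_assoc, ← h2]; group
    rw [h3]
  · have hyt := pi_inv h ht hy
    set y' := t⁻¹ * y * t with hy'def
    have hyR : π y' ∈ R := by rw [hyt]; exact inv_mem hy
    have h2 : (t⁻¹ * e) * y' = y' * (t⁻¹ * e) := by
      apply h.cent hS hyR
      rw [hyt, map_mul, map_inv]
      have h3 : (π t)⁻¹ * π y * π t = (π y)⁻¹ := ht _ (h.le hy)
      have h4 : (π e)⁻¹ * π y * π e = (π y)⁻¹ := h1
      calc (π t)⁻¹ * π e * (π y)⁻¹ = (π t)⁻¹ * π e * ((π e)⁻¹ * π y * π e) := by rw [h4]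
        _ = ((π t)⁻¹ * π y * π t) * ((π t)⁻¹ * π e) := by group
        _ = _ := by rw [h3]
    have h3 : e⁻¹ * y * e = y' := by
      calc e⁻¹ * y * e = (t⁻¹ * e)⁻¹ * (y' * (t⁻¹ * e)) := by rw [hy'def]; group
        _ = (t⁻¹ * e)⁻¹ * ((t⁻¹ * e) * y') := by rw [h2]
        _ = y' := by group
    rw [h3]
    have h4 : (t * t) * y = y * (t * t) := by
      apply h.cent hS hy
      rw [map_mul]
      have h5 : (π t)⁻¹ * π y * π t = (π y)⁻¹ := ht _ (h.le hy)
      have h6 : (π t)⁻¹ * (π y)⁻¹ * π t = π y := by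
        have := ht _ (inv_mem (h.le hy))
        rwa [inv_inv] at this
      calc π t * π t * π y = π t * π t * ((π t)⁻¹ * (π y)⁻¹ * π t) := by rw [h6]
        _ = π t * (π y)⁻¹ * π t := by group
        _ = π t * ((π t)⁻¹ * π y * π t) * π t := by rw [h5]
        _ = _ := by group
    have h5 : t⁻¹ * y' * t = y := by
      calc t⁻¹ * y' * t = (t * t)⁻¹ * (y * (t * t)) := by rw [hy'def]; group
        _ = (t * t)⁻¹ * ((t * t) * y) := by rw [h4]
        _ = y := by group
    have h6 : sf t y' = sf t y := by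
      unfold sf
      rw [h5]
      exact (h.rad y' y hyR (h.le hy)).symm
    unfold om
    rw [h6]

end om

open Classical in
/-- the class function `θ'` -/
noncomputable def th (p : ℕ) (R : Subgroup G) (π : E →* G) (w : E → ℂ) (e : E) : ℂ :=
  if h : ∃ y, π y ∈ R ∧ IsConj e y then (p : ℂ) * w h.choose else 0

section th

variable {w : E → ℂ} (hw : ∀ y e : E, π y ∈ R → π (e⁻¹ * y * e) ∈ R → w (e⁻¹ * y * e) = w y)

include hw in
theorem th_eq {e y : E} (hy : π y ∈ R) (hc : IsConj e y) : th p R π w e = p * w y := by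
  have h1 : ∃ y, π y ∈ R ∧ IsConj e y := ⟨y, hy, hc⟩
  unfold th
  rw [dif_pos h1]
  congr 1
  have h2 := h1.choose_spec
  obtain ⟨c, hc'⟩ := isConj_iff.1 (h2.2.symm.trans hc).symm
  have h3 := hw y c⁻¹ hy (by rw [inv_inv, hc']; exact h2.1)
  rw [inv_inv, hc'] at h3
  exact h3

theorem th_zero {e : E} (h : ¬ ∃ y, π y ∈ R ∧ IsConj e y) : th p R π w e = 0 := by
  unfold th
  rw [dif_neg h]

include hw in
theorem th_conj {e f : E} (hc : IsConj e f) : th p R π w e = th p R π w f := by
  by_cases h : ∃ y, π y ∈ R ∧ IsConj e y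
  · obtain ⟨y, hy, hey⟩ := h
    rw [th_eq hw hy hey, th_eq hw hy (hc.symm.trans hey)]
  · rw [th_zero h, th_zero]
    rintro ⟨y, hy, hfy⟩
    exact h ⟨y, hy, hc.trans hfy⟩

theorem th_off (h : Cov P R π ζ) (hS : Sit P) {e : E} (he : π e ∈ P.toSubgroup) (heR : π e ∉ R) :
    th p R π w e = 0 := by
  apply th_zero
  rintro ⟨y, hy, hc⟩
  have h1 : IsConj (π e) (π y) := by
    obtain ⟨c, hc⟩ := isConj_iff.1 hc
    exact isConj_iff.2 ⟨π c, by rw [← map_inv, ← map_mul, ← map_mul, hc]⟩
  rcases (hS.isConj_iff' he (h.le hy)).1 h1 with h2 | h2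
  · exact heR (h2 ▸ hy)
  · apply heR
    have : π e = (π y)⁻¹ := by rw [h2, inv_inv]
    rw [this]; exact inv_mem hy

end th

end cov

end Cfsg.Agent.H92.ST
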