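import Cfsg.Agent.H92.STd
import Cfsg.Agent.H92.STe
import Cfsg.Agent.H79.ProdChar

/-!
# The central extension: the two generalized characters (owner: helper92)
-/

set_option autoImplicit false
set_option linter.unusedSectionVars false
set_option linter.style.haveILetI false

universe u

namespace Cfsg.Agent.H92.ST

open scoped ComplexConjugate
open Cfsg Cfsg.Agent.CharBase Cfsg.Agent.Char

section cov

variable {G : Type u} [Group G] [Fintype G] {p : ℕ} [hp : Fact p.Prime] {P : Sylow p G}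
  {R : Subgroup G} {E : Type u} [Group E] [Fintype E] {π : E →* G}
  {ζ : Multiplicative (ZMod p) →* E}

theorem Cov.card_comap (h : Cov P R π ζ) (K : Subgroup G) :
    Nat.card (K.comap π) = p * Nat.card K := by
  have h1 := (K.comap π).card_mul_index
  rw [Subgroup.index_comap_of_surjective _ h.surj, h.card_E, ← K.card_mul_index, ← mul_assoc] at h1
  exact Nat.eq_of_mul_eq_mul_right (Nat.pos_of_ne_zero K.index_ne_zero_of_finite) h1

theorem isGen_comp {H K : Type u} [Group H] [Group K] (f : H →* K) {θ : K → ℂ}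
    (h : IsGeneralizedCharacter K θ) : IsGeneralizedCharacter H (fun x => θ (f x)) := by
  obtain ⟨a, b, ha, hb, rfl⟩ := h
  exact ⟨fun x => a (f x), fun x => b (f x), isCharacter_comp ha f, isCharacter_comp hb f, rfl⟩

open Classical in
/-- (L5) the character of the preimage of the Sylow subgroup -/
theorem th_gen (h : Cov P R π ζ) (hS : Sit P) (L0 : Multiplicative (ZMod p) →* ℂ)
    (hL : ∀ z, z ≠ 1 → L0 z ≠ 1) {t : E}
    (ht : ∀ x ∈ P.toSubgroup, (π t)⁻¹ * x * π t = x⁻¹) :
    IsGeneralizedCharacter (P.toSubgroup.comap π : Subgroup E)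
      (fun x => th p R π (om ζ L0 t) (x : E)) := by
  set Ph : Subgroup E := P.toSubgroup.comap π with hPh
  haveI : Fintype Ph := Fintype.ofFinite _
  have hfus : ∀ y e : E, π y ∈ R → π (e⁻¹ * y * e) ∈ R → om ζ L0 t (e⁻¹ * y * e) = om ζ L0 t y :=
    fun y e hy he => om_fus h hS L0 ht hy he
  set w := om ζ L0 t with hw
  rw [isGeneralizedCharacter_iff]
  refine ⟨?_, fun ψ => ?_⟩
  · intro x y
    exact th_conj hfus (isConj_iff.2 ⟨(y : E)⁻¹, by simp [mul_assoc]⟩)
  -- values
  have hval : ∀ x : Ph, th p R π w (x : E) = (p : ℂ) * (if π (x : E) ∈ R then w x else 0) := by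
    intro x
    by_cases hx : π (x : E) ∈ R
    · rw [if_pos hx]
      exact th_eq hfus hx (IsConj.refl _)
    · rw [if_neg hx, mul_zero]
      exact th_off h hS x.2 hx
  let f : Ph → ℂ := fun x => (if π (x : E) ∈ R then w x else 0) * conj ((ψ : Ph → ℂ) x)
  have hin : classInner (fun x : Ph => th p R π w (x : E)) (ψ : Ph → ℂ) =
      (Nat.card Ph : ℂ)⁻¹ * ((p : ℂ) * ∑ x : Ph, f x) := by
    unfold classInner
    congr 1
    rw [Finset.mul_sum]
    refine Finset.sum_congr rfl fun x _ => ?_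
    show th p R π w (x : E) * conj ((ψ : Ph → ℂ) x) =
      (p : ℂ) * ((if π (x : E) ∈ R then w x else 0) * conj ((ψ : Ph → ℂ) x))
    rw [hval]; ring
  rw [hin]
  by_cases hSz : ∑ x : Ph, f x = 0
  · exact ⟨0, by rw [hSz]; simp⟩
  -- central elements
  have hcen : ∀ r : Ph, π (r : E) ∈ R → r ∈ Subgroup.center Ph := by
    intro r hr
    rw [Subgroup.mem_center_iff]
    intro g
    apply Subtype.ext
    exact (h.rad r g hr g.2).symm
  have hmu : ∀ r : Ph, π (r : E) ∈ R → ∀ g : Ph, (ψ : Ph → ℂ) (r * g) = w r * (ψ : Ph → ℂ) g := by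
    intro r hr
    obtain ⟨μ, -, hμ, hμg⟩ := H79.irr_central_mul ψ (hcen r hr)
    have hμc : μ * conj μ = 1 := by
      rw [Complex.mul_conj, Complex.normSq_eq_norm_sq, hμ]; norm_num
    have h1 : ∑ x : Ph, f x = (w r * conj μ) * ∑ x : Ph, f x := by
      conv_lhs => rw [← Equiv.sum_comp (Equiv.mulLeft r)]
      rw [Finset.mul_sum]
      refine Finset.sum_congr rfl fun x _ => ?_
      show (if π ((r * x : Ph) : E) ∈ R then w ((r * x : Ph) : E) else 0) * conj ((ψ : Ph → ℂ) (r * x)) =
        (w r * conj μ) * ((if π (x : E) ∈ R then w x else 0) * conj ((ψ : Ph → ℂ) x))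
      have h2 : (π ((r * x : Ph) : E) ∈ R) ↔ π (x : E) ∈ R := by
        rw [Subgroup.coe_mul, map_mul]
        exact R.mul_mem_cancel_left hr
      rw [hμg, map_mul]
      by_cases h3 : π (x : E) ∈ R
      · rw [if_pos h3, if_pos (h2.2 h3), Subgroup.coe_mul, hw, om_mul h L0 ht hr h3]
        ring
      · rw [if_neg h3, if_neg (fun h4 => h3 (h2.1 h4))]
        ring
    have h2 : w r * conj μ = 1 := by
      have h3 : (w r * conj μ - 1) * ∑ x : Ph, f x = 0 := by linear_combination -h1
      rcases mul_eq_zero.1 h3 with h4 | h4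
      · exact sub_eq_zero.1 h4
      · exact absurd h4 hSz
    have h3 : μ = w r := by
      calc μ = (w r * conj μ) * μ := by rw [h2, one_mul]
        _ = w r * (μ * conj μ) := by ring
        _ = w r := by rw [hμc, mul_one]
    intro g
    rw [hμg, h3]
  obtain ⟨d, hd⟩ := exists_nat_degree (irr_isCharacter ψ)
  have hψR : ∀ r : Ph, π (r : E) ∈ R → (ψ : Ph → ℂ) r = w r * d := by
    intro r hr
    have := hmu r hr 1
    rwa [mul_one, hd] at this
  have hψ0 : ∀ g : Ph, π (g : E) ∉ R → (ψ : Ph → ℂ) g = 0 := by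
    intro g hg
    obtain ⟨y, z, hy, hz, hyz⟩ := h.nondeg g g.2 hg
    have hzP : ζ z ∈ Ph := by
      rw [hPh, Subgroup.mem_comap, h.pi_zeta]; exact one_mem _
    have h1 : (⟨y, hy⟩ : Ph)⁻¹ * g * (⟨y, hy⟩ : Ph) = (⟨ζ z, hzP⟩ : Ph) * g := by
      apply Subtype.ext
      show y⁻¹ * (g : E) * y = ζ z * g
      rw [mul_assoc, hyz, h.cen]; group
    have h2 := irr_isClassFunction ψ g (⟨y, hy⟩ : Ph)⁻¹
    rw [inv_inv, h1, hmu ⟨ζ z, hzP⟩ (by
      show π (ζ z) ∈ R
      rw [h.pi_zeta]; exact one_mem _)] at h2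
    have h3 : w ((⟨ζ z, hzP⟩ : Ph) : E) = L0 z := om_zeta h L0 hS.odd z
    rw [h3] at h2
    have h4 : (L0 z - 1) * (ψ : Ph → ℂ) g = 0 := by linear_combination h2
    rcases mul_eq_zero.1 h4 with h5 | h5
    · exact absurd (sub_eq_zero.1 h5) (hL z hz)
    · exact h5
  have hcount : ∑ x : Ph, (if π (x : E) ∈ R then (1 : ℂ) else 0) = (p : ℂ) * Nat.card R := by
    rw [Finset.sum_boole]
    have e1 : (Finset.univ.filter (fun x : Ph => π (x : E) ∈ R)).card =
        Nat.card ((R.comap π).subgroupOf Ph) := by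
      rw [Nat.card_eq_fintype_card, Fintype.card_subtype]
      congr 1
    have e2 : Nat.card ((R.comap π).subgroupOf Ph) = Nat.card (R.comap π) :=
      Nat.card_congr (Subgroup.subgroupOfEquivOfLe (Subgroup.comap_mono h.le)).toEquiv
    rw [e1, e2, h.card_comap]
    push_cast; rfl
  have hwn : ∀ r : Ph, π (r : E) ∈ R → w r * conj (w r) = 1 := fun r hr => om_norm h L0 ht hr
  have hS1 : ∑ x : Ph, f x = d * ((p : ℂ) * Nat.card R) := by
    rw [← hcount, Finset.mul_sum]
    refine Finset.sum_congr rfl fun x _ => ?_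
    show (if π (x : E) ∈ R then w x else 0) * conj ((ψ : Ph → ℂ) x) = _
    by_cases hx : π (x : E) ∈ R
    · rw [if_pos hx, if_pos hx, hψR x hx, map_mul, Complex.conj_natCast]
      linear_combination (d : ℂ) * hwn x hx
    · rw [if_neg hx, if_neg hx]; ring
  have hN : (Nat.card Ph : ℂ) = (p : ℂ) * ((p : ℂ) ^ 2 * Nat.card R) := by
    rw [hPh, h.card_comap, h.card]
    push_cast; ring
  have hnorm : (d : ℂ) ^ 2 * ((p : ℂ) * Nat.card R) = Nat.card Ph := by
    have h1 := classInner_irr_self ψ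
    unfold classInner at h1
    have h2 : (Nat.card Ph : ℂ) ≠ 0 := by exact_mod_cast (Nat.card_pos (α := Ph)).ne'
    have h3 : ∑ x : Ph, (ψ : Ph → ℂ) x * conj ((ψ : Ph → ℂ) x) = Nat.card Ph := by
      field_simp at h1
      exact h1
    rw [← h3, ← hcount, Finset.mul_sum]
    refine Finset.sum_congr rfl fun x _ => ?_
    by_cases hx : π (x : E) ∈ R
    · rw [if_pos hx, hψR x hx, map_mul, Complex.conj_natCast]
      linear_combination -(d : ℂ) ^ 2 * hwn x hx
    · rw [if_neg hx, hψ0 x hx]; simp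
  have hp0 : (p : ℂ) ≠ 0 := by exact_mod_cast hp.out.ne_zero
  have hR0 : (Nat.card R : ℂ) ≠ 0 := by exact_mod_cast (Nat.card_pos (α := R)).ne'
  have hd2 : (d : ℂ) ^ 2 = (p : ℂ) ^ 2 := by
    rw [hN] at hnorm
    have : ((d : ℂ) ^ 2 - (p : ℂ) ^ 2) * ((p : ℂ) * Nat.card R) = 0 := by linear_combination hnorm
    rcases mul_eq_zero.1 this with h1 | h1
    · exact sub_eq_zero.1 h1
    · exact absurd h1 (mul_ne_zero hp0 hR0)
  have hdp : d = p := by
    have h1 : d ^ 2 = p ^ 2 := by exact_mod_cast hd2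
    exact Nat.pow_left_injective (by norm_num) h1
  refine ⟨1, ?_⟩
  rw [hS1, hN, hdp]
  push_cast
  field_simp

variable {n k k' : ℕ}

/-- (L6) the generalized character `Θ` -/
theorem Theta_gen (h : Cov P R π ζ) (hS : Sit P) (L0 : Multiplicative (ZMod p) →* ℂ)
    (hL : ∀ z, z ≠ 1 → L0 z ≠ 1) {t : E}
    (ht : ∀ x ∈ P.toSubgroup, (π t)⁻¹ * x * π t = x⁻¹) (hE : Exps p (Nat.card E) k k') :
    IsGeneralizedCharacter E (fun e => th p R π (om ζ L0 t) (e ^ k)) := by
  have hn : Nat.card E ≠ 0 := Nat.card_pos.ne'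
  have hfus : ∀ y e : E, π y ∈ R → π (e⁻¹ * y * e) ∈ R → om ζ L0 t (e⁻¹ * y * e) = om ζ L0 t y :=
    fun y e hy he => om_fus h hS L0 ht hy he
  have hgen := th_gen h hS L0 hL ht
  set w := om ζ L0 t with hw
  apply BI.brauer_characterization
  · intro x y
    apply th_conj hfus
    rw [conj_pow]
    exact isConj_iff.2 ⟨y⁻¹, by group⟩
  · intro H q hq hH
    have hnil := nilpotent_of_elementary hq hH
    have hpow : ∀ a b : H, (a * b) ^ k = a ^ k * b ^ k :=
      hE.nil_k hp.out hn hnil (Subgroup.card_subgroup_dvd_card H)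
    -- the image
    let κ0 : H →* G :=
      { toFun := fun a => π ((a : E) ^ k)
        map_one' := by simp
        map_mul' := by
          intro a b
          rw [← map_mul]
          congr 1
          exact congrArg Subtype.val (hpow a b) }
    have hQ : IsPGroup p κ0.range := by
      rw [IsPGroup.iff_orderOf]
      rintro ⟨_, a, rfl⟩
      obtain ⟨j, hj⟩ := hE.orderOf_pow_k hp.out (a : E) (orderOf_dvd_natCard _)
      have h1 : orderOf (π ((a : E) ^ k)) ∣ p ^ j := hj ▸ orderOf_map_dvd π _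
      obtain ⟨i, _, hi⟩ := (Nat.dvd_prime_pow hp.out).1 h1
      exact ⟨i, by rw [← Subgroup.orderOf_coe]; exact hi⟩
    obtain ⟨Q, hQle⟩ := hQ.exists_le_sylow
    obtain ⟨c, hc⟩ := MulAction.exists_smul_eq G Q P
    obtain ⟨ce, rfl⟩ := h.surj c
    have hmem : ∀ a : H, π (ce * (a : E) ^ k * ce⁻¹) ∈ P.toSubgroup := by
      intro a
      have h2 : π ((a : E) ^ k) ∈ Q.toSubgroup := hQle ⟨a, rfl⟩
      have h3 : π ce * π ((a : E) ^ k) * (π ce)⁻¹ ∈ (π ce • Q : Sylow p G).toSubgroup :=
        Subgroup.smul_mem_pointwise_smul _ (MulAut.conj (π ce)) Q.toSubgroup h2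
      rw [hc] at h3
      rwa [map_mul, map_mul, map_inv]
    let κ : H →* (P.toSubgroup.comap π : Subgroup E) :=
      { toFun := fun a => ⟨ce * (a : E) ^ k * ce⁻¹, hmem a⟩
        map_one' := by
          apply Subtype.ext
          show ce * ((1 : H) : E) ^ k * ce⁻¹ = 1
          simp
        map_mul' := by
          intro a b
          apply Subtype.ext
          show ce * ((a * b : H) : E) ^ k * ce⁻¹ = (ce * (a : E) ^ k * ce⁻¹) * (ce * (b : E) ^ k * ce⁻¹)
          have h1 : ((a * b : H) : E) ^ k = (a : E) ^ k * (b : E) ^ k := congrArg Subtype.val (hpow a b)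
          rw [h1]; group }
    have h1 := isGen_comp κ hgen
    have h2 : (fun e : H => th p R π w ((e : E) ^ k)) = fun x => th p R π w ((κ x : _) : E) := by
      funext a
      apply th_conj hfus
      exact isConj_iff.2 ⟨ce, rfl⟩
    rw [h2]
    exact h1

/-- the generalized character `W`, as a function -/
noncomputable def Wf (π : E →* G) (ζ : Multiplicative (ZMod p) →* E) (L0 : Multiplicative (ZMod p) →* ℂ)
    (k : ℕ) (F : G → ℂ) (e : E) : ℂ := Lf ζ L0 (e ^ k) * F (π e)

/-- the transferred class function -/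
noncomputable def nat (π : E →* G) (hs : Function.Surjective π) (k' : ℕ) (ψ : E → ℂ) (g : G) : ℂ :=
  ψ ((hs g).choose ^ k')

theorem zeta_ppow (z : Multiplicative (ZMod p)) : ∃ j, orderOf (ζ z) = p ^ j := by
  have h1 : (ζ z) ^ p = 1 := by rw [← map_pow, Cov.zpow_p, map_one]
  rcases (Nat.dvd_prime hp.out).1 (orderOf_dvd_of_pow_eq_one h1) with h2 | h2
  · exact ⟨0, by rw [h2, pow_zero]⟩
  · exact ⟨1, by rw [h2, pow_one]⟩

theorem zeta_pow_k' (h : Cov P R π ζ) (hE : Exps p (Nat.card E) k k') (z : Multiplicative (ZMod p)) :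
    (ζ z) ^ k' = 1 := by
  have hn : Nat.card E ≠ 0 := Nat.card_pos.ne'
  apply hE.pow_k'_of_ppow hp.out hn _ (orderOf_dvd_natCard _)
  exact zeta_ppow z

theorem zeta_pow_k (h : Cov P R π ζ) (hE : Exps p (Nat.card E) k k') (z : Multiplicative (ZMod p)) :
    (ζ z) ^ k = ζ z := by
  have hn : Nat.card E ≠ 0 := Nat.card_pos.ne'
  apply hE.pow_k_of_ppow hp.out hn _ (orderOf_dvd_natCard _)
  exact zeta_ppow z

theorem lift_pow (h : Cov P R π ζ) (hE : Exps p (Nat.card E) k k') {e f : E} (hef : π e = π f) :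
    e ^ k' = f ^ k' := by
  obtain ⟨z, hz⟩ := h.mem_range (e := e * f⁻¹) (by rw [map_mul, map_inv, hef, mul_inv_cancel])
  have h1 : e = ζ z * f := by rw [hz]; group
  rw [h1, (show Commute (ζ z) f from h.cen z f).mul_pow, zeta_pow_k' h hE, one_mul]

theorem nat_pi (h : Cov P R π ζ) (hE : Exps p (Nat.card E) k k') (ψ : E → ℂ) (e : E) :
    nat π h.surj k' ψ (π e) = ψ (e ^ k') := by
  unfold nat
  rw [lift_pow h hE (h.surj (π e)).choose_spec]

theorem nat_gen (h : Cov P R π ζ) (hE : Exps p (Nat.card E) k k') (ψ : IrrCharacter E) :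
    IsGeneralizedCharacter G (nat π h.surj k' (ψ : E → ℂ)) := by
  have hn : Nat.card E ≠ 0 := Nat.card_pos.ne'
  apply BI.brauer_characterization
  · intro x y
    obtain ⟨x, rfl⟩ := h.surj x
    obtain ⟨y, rfl⟩ := h.surj y
    rw [← map_inv, ← map_mul, ← map_mul, nat_pi h hE, nat_pi h hE, conj_pow]
    exact irr_isClassFunction ψ _ _
  · intro H q hq hH
    have hnil := nilpotent_of_elementary hq hH
    have hnil' : Group.IsNilpotent (H.comap π) := by
      let f : (H.comap π) →* H := π.subgroupComap H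
      refine @Subgroup.isNilpotent_of_ker_le_center _ _ _ _ f ?_ hnil
      intro x hx
      have h1 : π (x : E) = 1 := congrArg Subtype.val hx
      obtain ⟨z, hz⟩ := h.mem_range h1
      rw [Subgroup.mem_center_iff]
      intro g
      apply Subtype.ext
      show (g : E) * x = x * g
      rw [← hz, h.cen]
    have hpow : ∀ a b : H.comap π, (a * b) ^ k' = a ^ k' * b ^ k' :=
      hE.nil_k' hp.out hn hnil' (Subgroup.card_subgroup_dvd_card _)
    choose l hl using h.surj
    let κ : H →* E :=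
      { toFun := fun a => l a ^ k'
        map_one' := by
          have h1 : π (l ((1 : H) : G)) = π 1 := by rw [hl]; simp
          show l ((1 : H) : G) ^ k' = 1
          rw [lift_pow h hE h1, one_pow]
        map_mul' := by
          intro a b
          show l ((a * b : H) : G) ^ k' = l a ^ k' * l b ^ k'
          have h1 : π (l ((a * b : H) : G)) = π (l a * l b) := by rw [hl, map_mul, hl, hl]; rfl
          rw [lift_pow h hE h1]
          have ha : l a ∈ H.comap π := by rw [Subgroup.mem_comap, hl]; exact a.2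
          have hb : l b ∈ H.comap π := by rw [Subgroup.mem_comap, hl]; exact b.2
          exact congrArg Subtype.val (hpow ⟨l a, ha⟩ ⟨l b, hb⟩) }
    have h1 := isCharacter_comp (irr_isCharacter ψ) κ
    have h2 : (fun e : H => nat π h.surj k' (ψ : E → ℂ) e) = fun x => (ψ : E → ℂ) (κ x) := by
      funext a
      have := nat_pi h hE (ψ : E → ℂ) (l a)
      rw [hl] at this
      exact this
    rw [h2]
    exact ⟨_, 0, h1, isCharacter_zero, by rw [sub_zero]; rfl⟩

theorem sum_pi (h : Cov P R π ζ) (f : G → ℂ) : ∑ e : E, f (π e) = (p : ℂ) * ∑ g : G, f g := by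
  classical
  have h1 : ∀ g : G, (Finset.univ.filter (fun e : E => π e = g)).card = p := by
    intro g
    obtain ⟨e0, rfl⟩ := h.surj g
    have h2 : Finset.univ.filter (fun e : E => π e = π e0) =
        Finset.univ.image (fun z : Multiplicative (ZMod p) => e0 * ζ z) := by
      ext e
      simp only [Finset.mem_filter, Finset.mem_univ, true_and, Finset.mem_image]
      constructor
      · intro he
        obtain ⟨z, hz⟩ := h.mem_range (e := e0⁻¹ * e) (by rw [map_mul, map_inv, he, inv_mul_cancel])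
        exact ⟨z, by rw [hz]; group⟩
      · rintro ⟨z, rfl⟩
        rw [map_mul, h.pi_zeta, mul_one]
    rw [h2, Finset.card_image_of_injective _ (fun a b hab => h.inj (mul_left_cancel hab)),
      Finset.card_univ, ← Nat.card_eq_fintype_card]
    exact Nat.card_zmod p
  rw [← Finset.sum_fiberwise_of_maps_to (s := Finset.univ) (t := Finset.univ) (g := fun e : E => π e)
    (fun _ _ => Finset.mem_univ _), Finset.mul_sum]
  refine Finset.sum_congr rfl fun g _ => ?_
  have h3 : ∑ e ∈ Finset.univ.filter (fun e : E => π e = g), f (π e) =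
      ∑ e ∈ Finset.univ.filter (fun e : E => π e = g), f g := by
    refine Finset.sum_congr rfl fun e he => ?_
    rw [(Finset.mem_filter.1 he).2]
  rw [h3, Finset.sum_const, h1, nsmul_eq_mul]

/-- (L7) the generalized character `W` -/
theorem W_gen (h : Cov P R π ζ) (hE : Exps p (Nat.card E) k k') (L0 : Multiplicative (ZMod p) →* ℂ)
    {F : G → ℂ} (hF : IsGeneralizedCharacter G F) (hF0 : ∀ g : G, g ^ k ≠ 1 → F g = 0) :
    IsGeneralizedCharacter E (Wf π ζ L0 k F) := by
  have hn : Nat.card E ≠ 0 := Nat.card_pos.ne'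
  have hFc := (isGeneralizedCharacter_iff.1 hF).1
  rw [isGeneralizedCharacter_iff]
  have hW0 : ∀ e : E, (¬ ∃ z, ζ z = e ^ k) → F (π e) = 0 := by
    intro e he
    apply hF0
    intro h1
    rw [← map_pow] at h1
    exact he (h.mem_range h1)
  refine ⟨?_, fun ψ => ?_⟩
  · intro x y
    unfold Wf
    rw [conj_pow, map_mul, map_mul, map_inv, hFc]
    by_cases hx : ∃ z, ζ z = x ^ k
    · obtain ⟨z, hz⟩ := hx
      rw [← hz, ← h.cen z y]
      congr 2
      group
    · rw [hW0 x hx, mul_zero, mul_zero]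
  have hin : classInner (Wf π ζ L0 k F) (ψ : E → ℂ) =
      (Nat.card E : ℂ)⁻¹ * ∑ e : E, Wf π ζ L0 k F e * conj ((ψ : E → ℂ) e) := rfl
  rw [hin]
  by_cases hSz : ∑ e : E, Wf π ζ L0 k F e * conj ((ψ : E → ℂ) e) = 0
  · exact ⟨0, by rw [hSz]; simp⟩
  have hcen : ∀ z, ζ z ∈ Subgroup.center E := by
    intro z
    rw [Subgroup.mem_center_iff]
    intro g
    exact (h.cen z g).symm
  have hmu : ∀ z, ∀ g : E, (ψ : E → ℂ) (ζ z * g) = L0 z * (ψ : E → ℂ) g := by
    intro z
    obtain ⟨μ, -, hμ, hμg⟩ := H79.irr_central_mul ψ (hcen z)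
    have hμc : μ * conj μ = 1 := by
      rw [Complex.mul_conj, Complex.normSq_eq_norm_sq, hμ]; norm_num
    have h1 : ∑ e : E, Wf π ζ L0 k F e * conj ((ψ : E → ℂ) e) =
        (L0 z * conj μ) * ∑ e : E, Wf π ζ L0 k F e * conj ((ψ : E → ℂ) e) := by
      conv_lhs => rw [← Equiv.sum_comp (Equiv.mulLeft (ζ z))]
      rw [Finset.mul_sum]
      refine Finset.sum_congr rfl fun x _ => ?_
      show Wf π ζ L0 k F (ζ z * x) * conj ((ψ : E → ℂ) (ζ z * x)) = _
      have h2 : Wf π ζ L0 k F (ζ z * x) = L0 z * Wf π ζ L0 k F x := by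
        unfold Wf
        rw [map_mul, h.pi_zeta, one_mul, (show Commute (ζ z) x from h.cen z x).mul_pow,
          zeta_pow_k h hE]
        by_cases hx : ∃ z, ζ z = x ^ k
        · obtain ⟨y, hy⟩ := hx
          rw [← hy, ← map_mul, Lf_zeta h.inj, Lf_zeta h.inj, map_mul]
          ring
        · rw [hW0 x hx]; ring
      rw [h2, hμg, map_mul]
      ring
    have h2 : L0 z * conj μ = 1 := by
      have h3 : (L0 z * conj μ - 1) * ∑ e : E, Wf π ζ L0 k F e * conj ((ψ : E → ℂ) e) = 0 := by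
        linear_combination -h1
      rcases mul_eq_zero.1 h3 with h4 | h4
      · exact sub_eq_zero.1 h4
      · exact absurd h4 hSz
    have h3 : μ = L0 z := by
      calc μ = (L0 z * conj μ) * μ := by rw [h2, one_mul]
        _ = L0 z * (μ * conj μ) := by ring
        _ = L0 z := by rw [hμc, mul_one]
    intro g
    rw [hμg, h3]
  obtain ⟨m, hm⟩ := classInner_intCast hF (nat_gen h hE ψ)
  refine ⟨m, ?_⟩
  have h1 : ∑ e : E, Wf π ζ L0 k F e * conj ((ψ : E → ℂ) e) =
      ∑ e : E, (fun g => F g * conj (nat π h.surj k' (ψ : E → ℂ) g)) (π e) := by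
    refine Finset.sum_congr rfl fun e _ => ?_
    show Lf ζ L0 (e ^ k) * F (π e) * conj ((ψ : E → ℂ) e) = F (π e) * conj (nat π h.surj k' (ψ : E → ℂ) (π e))
    rw [nat_pi h hE]
    by_cases hx : ∃ z, ζ z = e ^ k
    · obtain ⟨z, hz⟩ := hx
      have h2 : (ψ : E → ℂ) e = L0 z * (ψ : E → ℂ) (e ^ k') := by
        rw [← hmu, hz, hE.mul_pow_eq hp.out hn e (orderOf_dvd_natCard _)]
      rw [h2, ← hz, Lf_zeta h.inj, map_mul]
      linear_combination F (π e) * conj ((ψ : E → ℂ) (e ^ k')) * L0_mul_conj L0 z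
    · rw [hW0 e hx]; ring
  have h3 := h1.trans (sum_pi h (fun g => F g * conj (nat π h.surj k' (ψ : E → ℂ) g)))
  rw [h3, ← hm, h.card_E]
  unfold classInner
  have hp0 : (p : ℂ) ≠ 0 := by exact_mod_cast hp.out.ne_zero
  push_cast
  field_simp

end cov

end Cfsg.Agent.H92.ST
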