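import Cfsg.Agent.H92.STf
import Cfsg.Agent.H74.NormTwo

/-!
# The key identity (owner: helper92)
-/

set_option autoImplicit false
set_option linter.unusedSectionVars false
set_option linter.style.haveILetI false
set_option linter.unusedVariables false

universe u

namespace Cfsg.Agent.H92.ST

open scoped ComplexConjugate
open Cfsg Cfsg.Agent.CharBase Cfsg.Agent.Char

theorem two_vec {κ : Type*} [Fintype κ] [DecidableEq κ] {c m : κ → ℤ} (hc : ∑ k, c k ^ 2 = 2)
    (hm : ∑ k, m k ^ 2 = 2) (hcm : ∑ k, c k * m k = 0) (hpar : ∀ k, Even (c k - m k)) :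
    ∃ (a b : κ) (σ : ℤ), a ≠ b ∧ (σ = 1 ∨ σ = -1) ∧ (c a = 1 ∨ c a = -1) ∧ (c b = 1 ∨ c b = -1) ∧
      m a = σ * c a ∧ m b = -σ * c b ∧ ∀ k, k ≠ a → k ≠ b → c k = 0 ∧ m k = 0 := by
  have h1 := norm_two_card hc
  have h2 := norm_two_card hm
  obtain ⟨a, b, hab, hs⟩ := Finset.card_eq_two.1 h1
  have hca : c a = 1 ∨ c a = -1 := norm_two_unit hc ((mem_sup c a).1 (by rw [hs]; simp))
  have hcb : c b = 1 ∨ c b = -1 := norm_two_unit hc ((mem_sup c b).1 (by rw [hs]; simp))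
  have hne : ∀ k, (c k = 1 ∨ c k = -1) → m k ≠ 0 := by
    intro k hk h0
    obtain ⟨r, hr⟩ := hpar k
    rw [h0] at hr
    omega
  have hma := norm_two_unit hm (hne a hca)
  have hmb := norm_two_unit hm (hne b hcb)
  have hsm : sup m = {a, b} := (Finset.eq_of_subset_of_card_le (by
    intro u hu
    rw [Finset.mem_insert, Finset.mem_singleton] at hu
    rcases hu with rfl | rfl
    · exact (mem_sup _ _).2 (hne _ hca)
    · exact (mem_sup _ _).2 (hne _ hcb)) (by rw [h2, Finset.card_pair hab])).symm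
  have hoff : ∀ k, k ≠ a → k ≠ b → c k = 0 ∧ m k = 0 := by
    intro k hka hkb
    constructor
    · by_contra h0
      have := (mem_sup c k).2 h0
      rw [hs, Finset.mem_insert, Finset.mem_singleton] at this
      tauto
    · by_contra h0
      have := (mem_sup m k).2 h0
      rw [hsm, Finset.mem_insert, Finset.mem_singleton] at this
      tauto
  have h3 : ∑ k, c k * m k = c a * m a + c b * m b := by
    rw [sum_sup c (fun k => c k * m k) (fun k hk => by simp [hk]), hs, Finset.sum_pair hab]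
  rw [hcm] at h3
  refine ⟨a, b, c a * m a, hab, ?_, hca, hcb, ?_, ?_, hoff⟩
  · rcases hca with h4 | h4 <;> rcases hma with h5 | h5 <;> rw [h4, h5] <;> norm_num
  · rcases hca with h4 | h4 <;> rw [h4] <;> ring
  · rcases hcb with h4 | h4 <;> rw [h4] at h3 ⊢ <;> linarith

section cov

variable {G : Type u} [Group G] [Fintype G] {p : ℕ} [hp : Fact p.Prime] {P : Sylow p G}
  {R : Subgroup G} {E : Type u} [Group E] [Fintype E] {π : E →* G}
  {ζ : Multiplicative (ZMod p) →* E} {M : Ideal AlgInt}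

/-- the algebra -/
theorem algebra_end {a c X1 X2 Y1 Y2 s q : ℂ} (hs : s ^ 2 = q ^ 2) (hX : X1 + X2 = 1 - a)
    (hX' : X1 - X2 = s * (1 + a)) (hY : Y1 + Y2 = 1 - c) (hY' : Y1 - Y2 = s * (1 + c))
    (h0 : X1 ≠ 0) (h1 : X2 ≠ 0) (ha : a ≠ 0) (hq : q ^ 2 ≠ 1)
    (hfin : 1 - c ^ 2 / a = Y1 ^ 2 / X1 + Y2 ^ 2 / X2) : a = 1 ∨ a = c := by
  have e1 : X1 = ((1 - a) + s * (1 + a)) / 2 := by linear_combination (hX + hX') / 2
  have e2 : X2 = ((1 - a) - s * (1 + a)) / 2 := by linear_combination (hX - hX') / 2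
  have e3 : Y1 = ((1 - c) + s * (1 + c)) / 2 := by linear_combination (hY + hY') / 2
  have e4 : Y2 = ((1 - c) - s * (1 + c)) / 2 := by linear_combination (hY - hY') / 2
  have h2 : (a - c ^ 2) * (X1 * X2) = a * (Y1 ^ 2 * X2 + Y2 ^ 2 * X1) := by
    field_simp at hfin
    linear_combination hfin
  rw [e1, e2, e3, e4] at h2
  have h3 : (1 - a) * (a - c) ^ 2 * (q ^ 2 - 1) = 0 := by
    rw [← hs]
    linear_combination 4 * h2
  rcases mul_eq_zero.1 h3 with h4 | h4
  · rcases mul_eq_zero.1 h4 with h5 | h5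
    · left; linear_combination -h5
    · right
      have := pow_eq_zero_iff (two_ne_zero) |>.1 h5
      linear_combination this
  · exact absurd (sub_eq_zero.1 h4) hq

theorem key (h : Cov P R π ζ) (hS : Sit P) (hM : IsPModular p M) {χ : IrrCharacter G}
    (hχ : χ ∈ principalBlock M G) (hχ1 : χ ≠ oneIrr G) {δ : ℤ} (hδ : δ = 1 ∨ δ = -1)
    (hv : ∀ x ∈ P.toSubgroup, x ≠ 1 → (χ : G → ℂ) x = δ) {τ : G} (hτ : orderOf τ = 2) :
    (δ : ℂ) * (χ : G → ℂ) 1 = 1 ∨ (χ : G → ℂ) τ = (χ : G → ℂ) 1 := by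
  classical
  haveI : Fintype (IrrCharacter E) := Fintype.ofFinite _
  have hn : Nat.card E ≠ 0 := Nat.card_pos.ne'
  obtain ⟨k, k', hE⟩ := exists_exps hp.out hn
  obtain ⟨L0, hL⟩ := exists_L0 p
  obtain ⟨t0, ht0⟩ := hS.inv
  obtain ⟨t, rfl⟩ := h.surj t0
  have ht : ∀ x ∈ P.toSubgroup, (π t)⁻¹ * x * π t = x⁻¹ := ht0
  have hGE : Nat.card G ∣ Nat.card E := by rw [h.card_E]; exact Dvd.intro_left _ rfl
  have hdG : ∀ g : G, orderOf g ∣ Nat.card E := fun g => (orderOf_dvd_natCard g).trans hGE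
  have hdE : ∀ g : E, orderOf g ∣ Nat.card E := fun g => orderOf_dvd_natCard g
  have hδ2 : (δ : ℂ) ^ 2 = 1 := by rcases hδ with h1 | h1 <;> rw [h1] <;> norm_num
  have hδc : conj (δ : ℂ) = δ := map_intCast _ _
  have hp0 : (p : ℂ) ≠ 0 := by exact_mod_cast hp.out.ne_zero
  have hG0 : (Nat.card G : ℂ) ≠ 0 := by exact_mod_cast (Nat.card_pos (α := G)).ne'
  have hE0 : (Nat.card E : ℂ) ≠ 0 := by exact_mod_cast hn
  have hcE : (Nat.card E : ℂ) = p * Nat.card G := by rw [h.card_E]; push_cast; rfl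
  -- the virtual character of `G`
  set F : G → ℂ := (oneIrr G : G → ℂ) - (δ : ℂ) • (χ : G → ℂ) with hFdef
  have hFa : ∀ g, F g = 1 - δ * (χ : G → ℂ) g := fun g => by simp [hFdef]
  have hF : IsGeneralizedCharacter G F := by
    rcases hδ with h1 | h1
    · refine ⟨_, _, irr_isCharacter (oneIrr G), irr_isCharacter χ, ?_⟩
      rw [hFdef, h1]; simp
    · refine ⟨(oneIrr G : G → ℂ) + (χ : G → ℂ), 0, isCharacter_add (irr_isCharacter _) (irr_isCharacter χ),
        isCharacter_zero, ?_⟩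
      rw [hFdef, h1]; simp
  have hF0 : ∀ g : G, g ^ k ≠ 1 → F g = 0 := by
    intro g hg
    rw [hFa, chi_sing hS hM hχ hv (hE.isPPart hp.out hn g (hdG g)) hg]
    linear_combination -hδ2
  have hFF : classInner F F = 2 := by
    rw [hFdef, classInner_sub_left, classInner_sub_right, classInner_sub_right, classInner_smul_left,
      classInner_smul_right, classInner_smul_left, classInner_smul_right, classInner_irr, classInner_irr,
      classInner_irr, classInner_irr, if_pos rfl, if_pos rfl, if_neg hχ1, if_neg hχ1.symm, hδc]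
    linear_combination hδ2
  have hF1 : classInner F (oneIrr G : G → ℂ) = 1 := by
    rw [hFdef, classInner_sub_left, classInner_smul_left, classInner_irr, classInner_irr, if_pos rfl,
      if_neg hχ1]
    ring
  have hsumF : ∑ g : G, F g = Nat.card G := by
    have h1 := hF1
    unfold classInner at h1
    simp only [oneIrr_apply, map_one, mul_one] at h1
    field_simp at h1
    exact h1
  have hsumFF : ∑ g : G, F g * conj (F g) = 2 * Nat.card G := by
    have h1 := hFF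
    unfold classInner at h1
    field_simp at h1
    linear_combination h1
  -- the two generalized characters
  have hWg := W_gen h hE L0 hF hF0
  have hTg := Theta_gen h hS L0 hL ht hE
  set w := om ζ L0 t with hw
  have hfus : ∀ y e : E, π y ∈ R → π (e⁻¹ * y * e) ∈ R → w (e⁻¹ * y * e) = w y :=
    fun y e hy he => om_fus h hS L0 ht hy he
  set W : E → ℂ := Wf π ζ L0 k F with hWdef
  set T : E → ℂ := fun e => th p R π w (e ^ k) with hTdef
  have hW0 : ∀ e : E, (¬ ∃ z, ζ z = e ^ k) → F (π e) = 0 := by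
    intro e he
    apply hF0
    intro h1
    rw [← map_pow] at h1
    exact he (h.mem_range h1)
  have hthz : ∀ z, th p R π w (ζ z) = p * L0 z := by
    intro z
    rw [th_eq hfus (y := ζ z) (by rw [h.pi_zeta]; exact one_mem _) (IsConj.refl _), hw,
      om_zeta h L0 hS.odd]
  -- inner products
  have hWW : classInner W W = 2 := by
    unfold classInner
    have h1 : ∑ e : E, W e * conj (W e) = ∑ e : E, (fun g => F g * conj (F g)) (π e) := by
      refine Finset.sum_congr rfl fun e _ => ?_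
      show Lf ζ L0 (e ^ k) * F (π e) * conj (Lf ζ L0 (e ^ k) * F (π e)) = F (π e) * conj (F (π e))
      by_cases hx : ∃ z, ζ z = e ^ k
      · obtain ⟨z, hz⟩ := hx
        rw [← hz, Lf_zeta h.inj, map_mul]
        linear_combination (F (π e) * conj (F (π e))) * L0_mul_conj L0 z
      · rw [hW0 e hx]; simp
    have h2 := h1.trans (sum_pi h (fun g => F g * conj (F g)))
    rw [h2, hsumFF, hcE]
    field_simp
  have hWT : classInner W T = p := by
    unfold classInner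
    have h1 : ∑ e : E, W e * conj (T e) = ∑ e : E, (fun g => (p : ℂ) * F g) (π e) := by
      refine Finset.sum_congr rfl fun e _ => ?_
      show Lf ζ L0 (e ^ k) * F (π e) * conj (th p R π w (e ^ k)) = (p : ℂ) * F (π e)
      by_cases hx : ∃ z, ζ z = e ^ k
      · obtain ⟨z, hz⟩ := hx
        rw [← hz, Lf_zeta h.inj, hthz, map_mul, Complex.conj_natCast]
        linear_combination (p * F (π e)) * L0_mul_conj L0 z
      · rw [hW0 e hx]; simp
    have h2 := h1.trans (sum_pi h (fun g => (p : ℂ) * F g))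
    rw [h2, ← Finset.mul_sum, hsumF, hcE]
    field_simp
  have hTT : classInner T T = ((p : ℂ) ^ 2 + 1) / 2 := by
    unfold classInner
    have h1 : ∑ e : E, T e * conj (T e) =
        ∑ e : E, (fun g => (p : ℂ) ^ 2 * (if ∃ x ∈ R, IsConj (g ^ k) x then 1 else 0)) (π e) := by
      refine Finset.sum_congr rfl fun e _ => ?_
      show th p R π w (e ^ k) * conj (th p R π w (e ^ k)) =
        (p : ℂ) ^ 2 * (if ∃ x ∈ R, IsConj ((π e) ^ k) x then 1 else 0)
      by_cases hx : ∃ y, π y ∈ R ∧ IsConj (e ^ k) y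
      · obtain ⟨y, hy, hc⟩ := hx
        rw [th_eq hfus hy hc, map_mul, Complex.conj_natCast, if_pos]
        · have := om_norm h L0 ht hy
          linear_combination (p : ℂ) ^ 2 * this
        · refine ⟨π y, hy, ?_⟩
          obtain ⟨c, hc⟩ := isConj_iff.1 hc
          exact isConj_iff.2 ⟨π c, by rw [← map_pow, ← map_inv, ← map_mul, ← map_mul, hc]⟩
      · rw [th_zero hx, if_neg]
        · simp
        · rintro ⟨x, hx', hc⟩
          obtain ⟨c, hc⟩ := isConj_iff.1 hc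
          obtain ⟨c, rfl⟩ := h.surj c
          apply hx
          refine ⟨c * e ^ k * c⁻¹, ?_, isConj_iff.2 ⟨c, rfl⟩⟩
          rw [map_mul, map_mul, map_inv, map_pow, hc]
          exact hx'
    have h2 := h1.trans (sum_pi h
      (fun g => (p : ℂ) ^ 2 * (if ∃ x ∈ R, IsConj (g ^ k) x then 1 else 0)))
    rw [h2, ← Finset.mul_sum, Finset.sum_boole, hcE]
    have h3 := count_R hS hM hE hn hdG h.le
    have hR0 : (Nat.card R : ℂ) ≠ 0 := by exact_mod_cast (Nat.card_pos (α := R)).ne'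
    have hN : (Nat.card P.toSubgroup : ℂ) = p ^ 2 * Nat.card R := by
      rw [h.card]; push_cast; rfl
    rw [hN] at h3
    have h4 : 2 * (p : ℂ) ^ 2 *
        ((Finset.univ.filter (fun g : G => ∃ x ∈ R, IsConj (g ^ k) x)).card : ℂ) =
        ((p : ℂ) ^ 2 + 1) * Nat.card G := by
      apply mul_left_cancel₀ hR0
      linear_combination h3
    field_simp
    linear_combination h4
  -- coefficients
  obtain ⟨c, hc, hcW, hcn⟩ := H74.exists_coeff hWg
  obtain ⟨n, hn', hnT, hnn⟩ := H74.exists_coeff hTg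
  have hc2 : ∑ ψ, c ψ ^ 2 = 2 := by
    rw [hWW] at hcn
    exact_mod_cast hcn.symm
  have hcn1 : ∑ ψ, c ψ * n ψ = p := by
    have h1 := classInner_eq_sum (f := W) (f' := T) (isGeneralizedCharacter_iff.1 hWg).1
    rw [hWT] at h1
    have h2 : ∀ ψ : IrrCharacter E, classInner W (ψ : E → ℂ) * classInner (ψ : E → ℂ) T =
        ((c ψ * n ψ : ℤ) : ℂ) := by
      intro ψ
      rw [hc, ← CharBase.classInner_conj_symm T (ψ : E → ℂ), hn', map_intCast]
      push_cast; rfl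
    rw [Finset.sum_congr rfl fun ψ _ => h2 ψ] at h1
    exact_mod_cast h1.symm
  have hn2 : 2 * ∑ ψ, n ψ ^ 2 = (p : ℤ) ^ 2 + 1 := by
    have h1 : (2 : ℂ) * ((∑ ψ, n ψ ^ 2 : ℤ) : ℂ) = (p : ℂ) ^ 2 + 1 := by
      rw [← hnn, hTT]; ring
    exact_mod_cast h1
  obtain ⟨r, hr⟩ := hp.out.odd_of_ne_two hS.odd
  obtain ⟨ψ1, ψ2, σ, h12, hσ, hc1, hc2', hm1, hm2, hoff⟩ := two_vec (c := c)
    (m := fun ψ => 2 * n ψ - p * c ψ) hc2 (by
      have e : ∀ ψ, (2 * n ψ - (p : ℤ) * c ψ) ^ 2 = 4 * n ψ ^ 2 - 4 * p * (c ψ * n ψ) + (p : ℤ) ^ 2 * c ψ ^ 2 :=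
        fun ψ => by ring
      rw [Finset.sum_congr rfl fun ψ _ => e ψ, Finset.sum_add_distrib, Finset.sum_sub_distrib,
        ← Finset.mul_sum, ← Finset.mul_sum, ← Finset.mul_sum, hc2, hcn1]
      linarith) (by
      have e : ∀ ψ, c ψ * (2 * n ψ - (p : ℤ) * c ψ) = 2 * (c ψ * n ψ) - p * c ψ ^ 2 :=
        fun ψ => by ring
      rw [Finset.sum_congr rfl fun ψ _ => e ψ, Finset.sum_sub_distrib,
        ← Finset.mul_sum, ← Finset.mul_sum, hc2, hcn1]
      ring) (by
      intro ψ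
      refine ⟨(r + 1) * c ψ - n ψ, ?_⟩
      rw [hr]; push_cast; ring)
  have hWe : ∀ e, W e = c ψ1 * (ψ1 : E → ℂ) e + c ψ2 * (ψ2 : E → ℂ) e := by
    intro e
    have h1 := congrFun hcW e
    rw [Finset.sum_apply] at h1
    rw [h1, ← Finset.sum_subset (Finset.subset_univ {ψ1, ψ2}), Finset.sum_pair h12]
    · rfl
    · intro ψ _ hψ
      rw [Finset.mem_insert, Finset.mem_singleton, not_or] at hψ
      rw [Pi.smul_apply, (hoff ψ hψ.1 hψ.2).1]; simp
  have hTe : ∀ e, 2 * T e - p * W e = σ * (c ψ1 * (ψ1 : E → ℂ) e - c ψ2 * (ψ2 : E → ℂ) e) := by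
    intro e
    have h1 := congrFun hcW e
    have h2 := congrFun hnT e
    rw [Finset.sum_apply] at h1 h2
    have h3 : 2 * T e - p * W e = ∑ ψ : IrrCharacter E, ((2 * n ψ - p * c ψ : ℤ) : ℂ) * (ψ : E → ℂ) e := by
      rw [h1, h2, Finset.mul_sum, Finset.mul_sum, ← Finset.sum_sub_distrib]
      refine Finset.sum_congr rfl fun ψ _ => ?_
      rw [Pi.smul_apply, Pi.smul_apply, smul_eq_mul, smul_eq_mul]
      push_cast; ring
    rw [h3, ← Finset.sum_subset (Finset.subset_univ {ψ1, ψ2}), Finset.sum_pair h12, hm1, hm2]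
    · push_cast; ring
    · intro ψ _ hψ
      rw [Finset.mem_insert, Finset.mem_singleton, not_or] at hψ
      rw [(hoff ψ hψ.1 hψ.2).2]; simp
  -- the involution
  obtain ⟨τ0, rfl⟩ := h.surj τ
  have hτ2 : (π τ0) ^ 2 = 1 := by rw [← hτ]; exact pow_orderOf_eq_one _
  obtain ⟨z0, hz0⟩ := h.mem_range (e := τ0 ^ 2) (by rw [map_pow, hτ2])
  set s := τ0 ^ p with hs
  have hπs : π s = π τ0 := by
    rw [hs, map_pow, hr, pow_succ, pow_mul, hτ2, one_pow, one_mul]
  have hs2 : s * s = 1 := by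
    rw [hs, ← pow_two, ← pow_mul, mul_comm, pow_mul, ← hz0, ← map_pow, Cov.zpow_p, map_one]
  have hsinv : s⁻¹ = s := inv_eq_of_mul_eq_one_left hs2
  have hso : ¬ p ∣ orderOf s := by
    intro hd
    have h1 : orderOf s ∣ 2 := orderOf_dvd_of_pow_eq_one (by rw [pow_two, hs2])
    have h2 := Nat.le_of_dvd (by norm_num) (hd.trans h1)
    have := hp.out.two_le
    exact hS.odd (by omega)
  have hsk : s ^ k = 1 := hE.pow_k_of_reg hp.out hn s (hdE s) hso
  -- `W` on products of two conjugates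
  have hWu : ∀ e : E, W (s * (e * s * e⁻¹)) = F (π (s * (e * s * e⁻¹))) := by
    intro e
    set u := s * (e * s * e⁻¹) with hu
    have hinv : s * u * s⁻¹ = u⁻¹ := by
      rw [hu, mul_inv_rev, mul_inv_rev, mul_inv_rev, inv_inv, hsinv]
      calc s * (s * (e * s * e⁻¹)) * s = (s * s) * (e * s * e⁻¹) * s := by group
        _ = _ := by rw [hs2]; group
    show Lf ζ L0 (u ^ k) * F (π u) = F (π u)
    by_cases hx : ∃ z, ζ z = u ^ k
    · obtain ⟨z, hz⟩ := hx
      have h1 : s * u ^ k * s⁻¹ = (u ^ k)⁻¹ := by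
        rw [← conj_pow, hinv, inv_pow]
      rw [← hz, ← h.cen, mul_assoc, mul_inv_cancel, mul_one, ← map_inv] at h1
      have h2 : z = z⁻¹ := h.inj h1
      have h3 : z ^ 2 = 1 := by
        rw [pow_two]; nth_rewrite 2 [h2]; exact mul_inv_cancel z
      have h4 : z = 1 := by
        have h5 : z ^ (2 * r + 1) = 1 := by
          rw [← hr]; exact Cov.zpow_p z
        rw [pow_succ, pow_mul, h3, one_pow, one_mul] at h5
        exact h5
      rw [← hz, h4, Lf_zeta h.inj, map_one, one_mul]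
    · rw [hW0 u hx, mul_zero]
  have hcount : 1 - (δ : ℂ) * (χ : G → ℂ) (π τ0) ^ 2 / (χ : G → ℂ) 1 =
      c ψ1 * (ψ1 : E → ℂ) s ^ 2 / (ψ1 : E → ℂ) 1 + c ψ2 * (ψ2 : E → ℂ) s ^ 2 / (ψ2 : E → ℂ) 1 := by
    have h1 : ∑ e : E, W (s * (e * s * e⁻¹)) = (Nat.card E : ℂ) *
        (c ψ1 * (ψ1 : E → ℂ) s ^ 2 / (ψ1 : E → ℂ) 1 + c ψ2 * (ψ2 : E → ℂ) s ^ 2 / (ψ2 : E → ℂ) 1) := by
      have e1 : ∀ e : E, W (s * (e * s * e⁻¹)) = c ψ1 * (ψ1 : E → ℂ) (s * (e * s * e⁻¹)) +
          c ψ2 * (ψ2 : E → ℂ) (s * (e * s * e⁻¹)) := fun e => hWe _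
      rw [Finset.sum_congr rfl fun e _ => e1 e, Finset.sum_add_distrib, ← Finset.mul_sum,
        ← Finset.mul_sum, sum_conj_mul ψ1.2, sum_conj_mul ψ2.2]
      ring
    have h2 : ∑ e : E, W (s * (e * s * e⁻¹)) = (p : ℂ) * ∑ g : G, F (π τ0 * (g * π τ0 * g⁻¹)) := by
      have e1 : ∑ e : E, W (s * (e * s * e⁻¹)) = ∑ e : E, (fun g => F (π τ0 * (g * π τ0 * g⁻¹))) (π e) := by
        refine Finset.sum_congr rfl fun e _ => ?_
        rw [hWu, map_mul, map_mul, map_mul, map_inv, hπs]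
      exact e1.trans (sum_pi h (fun g => F (π τ0 * (g * π τ0 * g⁻¹))))
    have h3 : ∑ g : G, F (π τ0 * (g * π τ0 * g⁻¹)) = (Nat.card G : ℂ) *
        (1 - (δ : ℂ) * (χ : G → ℂ) (π τ0) ^ 2 / (χ : G → ℂ) 1) := by
      simp only [hFa]
      rw [Finset.sum_sub_distrib, ← Finset.mul_sum, sum_conj_mul χ.2, Finset.sum_const,
        Finset.card_univ, ← Nat.card_eq_fintype_card, nsmul_eq_mul]
      ring
    rw [h1, h3, hcE, mul_assoc] at h2
    exact (mul_left_cancel₀ hG0 (mul_left_cancel₀ hp0 h2)).symm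
  -- values
  have hcc1 : (c ψ1 : ℂ) ^ 2 = 1 := by rcases hc1 with h1 | h1 <;> rw [h1] <;> norm_num
  have hcc2 : (c ψ2 : ℂ) ^ 2 = 1 := by rcases hc2' with h1 | h1 <;> rw [h1] <;> norm_num
  have hσ2 : (σ : ℂ) ^ 2 = 1 := by rcases hσ with h1 | h1 <;> rw [h1] <;> norm_num
  have hc10 : (c ψ1 : ℂ) ≠ 0 := by intro h0; rw [h0] at hcc1; norm_num at hcc1
  have hc20 : (c ψ2 : ℂ) ≠ 0 := by intro h0; rw [h0] at hcc2; norm_num at hcc2
  have hd1 := irr_one_ne_zero ψ1.2
  have hd2 := irr_one_ne_zero ψ2.2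
  have hdχ := irr_one_ne_zero χ.2
  have hδ0 : (δ : ℂ) ≠ 0 := by intro h0; rw [h0] at hδ2; norm_num at hδ2
  have hL1 : Lf ζ L0 (1 : E) = 1 := by
    rw [← map_one ζ, Lf_zeta h.inj, map_one]
  have hth1 : th p R π w (1 : E) = p := by
    have := hthz 1
    rwa [map_one, map_one, mul_one] at this
  have hW1 : W 1 = 1 - δ * (χ : G → ℂ) 1 := by
    show Lf ζ L0 ((1 : E) ^ k) * F (π 1) = _
    rw [one_pow, hL1, one_mul, map_one, hFa]
  have hT1 : T 1 = p := by
    show th p R π w ((1 : E) ^ k) = p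
    rw [one_pow, hth1]
  have hWs : W s = 1 - δ * (χ : G → ℂ) (π τ0) := by
    show Lf ζ L0 (s ^ k) * F (π s) = _
    rw [hsk, hL1, one_mul, hπs, hFa]
  have hTs : T s = p := by
    show th p R π w (s ^ k) = p
    rw [hsk, hth1]
  have e1 := hTe 1
  have e2 := hTe s
  rw [hT1, hW1] at e1
  rw [hTs, hWs] at e2
  have f1 := hWe 1
  have f2 := hWe s
  rw [hW1] at f1
  rw [hWs] at f2
  have hfin := algebra_end (a := δ * (χ : G → ℂ) 1) (c := δ * (χ : G → ℂ) (π τ0))
    (X1 := c ψ1 * (ψ1 : E → ℂ) 1) (X2 := c ψ2 * (ψ2 : E → ℂ) 1)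
    (Y1 := c ψ1 * (ψ1 : E → ℂ) s) (Y2 := c ψ2 * (ψ2 : E → ℂ) s) (s := σ * p) (q := p)
    (by rw [mul_pow, hσ2, one_mul]) f1.symm
    (by linear_combination (-(c ψ1 * (ψ1 : E → ℂ) 1 - c ψ2 * (ψ2 : E → ℂ) 1)) * hσ2 - σ * e1) f2.symm
    (by linear_combination (-(c ψ1 * (ψ1 : E → ℂ) s - c ψ2 * (ψ2 : E → ℂ) s)) * hσ2 - σ * e2)
    (mul_ne_zero hc10 hd1) (mul_ne_zero hc20 hd2) (mul_ne_zero hδ0 hdχ)
    (by
      have h1 : (p : ℂ) ^ 2 ≠ 1 := by
        intro h2
        have h3 : p ^ 2 = 1 := by exact_mod_cast h2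
        have := hp.out.two_le
        nlinarith
      exact h1)
    (by
      have g1 : (δ * (χ : G → ℂ) (π τ0)) ^ 2 / (δ * (χ : G → ℂ) 1) =
          (δ : ℂ) * (χ : G → ℂ) (π τ0) ^ 2 / (χ : G → ℂ) 1 := by
        field_simp
      have g2 : (c ψ1 * (ψ1 : E → ℂ) s) ^ 2 / (c ψ1 * (ψ1 : E → ℂ) 1) =
          c ψ1 * (ψ1 : E → ℂ) s ^ 2 / (ψ1 : E → ℂ) 1 := by
        field_simp
      have g3 : (c ψ2 * (ψ2 : E → ℂ) s) ^ 2 / (c ψ2 * (ψ2 : E → ℂ) 1) =
          c ψ2 * (ψ2 : E → ℂ) s ^ 2 / (ψ2 : E → ℂ) 1 := by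
        field_simp
      rw [g1, g2, g3]
      exact hcount)
  rcases hfin with h1 | h1
  · exact Or.inl h1
  · right
    exact (mul_left_cancel₀ hδ0 h1).symm

end cov

end Cfsg.Agent.H92.ST
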