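import Cfsg.Agent.H92.STe

/-!
# Existence of the covering group (owner: helper92)
-/

set_option autoImplicit false
set_option linter.unusedSectionVars false
set_option linter.style.haveILetI false
set_option linter.unusedVariables false

universe u

namespace Cfsg.Agent.H92.ST

/-- two independent homomorphisms to `ZMod p` on a non-cyclic abelian `p`-group -/
theorem exists_phi {A : Type u} [Group A] [Finite A] {p : ℕ} [hp : Fact p.Prime]
    (hA : ∀ a b : A, a * b = b * a) (hpA : IsPGroup p A) (hnc : ¬ IsCyclic A) :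
    ∃ φ1 φ2 : A → ZMod p, (∀ x y, φ1 (x * y) = φ1 x + φ1 y) ∧ (∀ x y, φ2 (x * y) = φ2 x + φ2 y) ∧
      ∀ a b, ∃ x, φ1 x = a ∧ φ2 x = b := by
  classical
  letI : CommGroup A := { (inferInstance : Group A) with mul_comm := hA }
  obtain ⟨ι, _, n, hn, ⟨e⟩⟩ := CommGroup.equiv_prod_multiplicative_zmod_of_finite A
  have hij : ∃ i j : ι, i ≠ j := by
    by_contra hcon
    push Not at hcon
    apply hnc
    rcases isEmpty_or_nonempty ι with hι | ⟨⟨i⟩⟩
    · have : Subsingleton A := by
        constructor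
        intro a b
        apply e.injective
        funext i
        exact (IsEmpty.false i).elim
      exact isCyclic_of_subsingleton
    · letI : Unique ι := ⟨⟨i⟩, fun j => hcon j i⟩
      let e2 := e.trans (MulEquiv.piUnique (fun i => Multiplicative (ZMod (n i))))
      exact isCyclic_of_surjective e2.symm e2.symm.surjective
  obtain ⟨i, j, hij⟩ := hij
  have hdvd : ∀ i, p ∣ n i := by
    intro i
    haveI : NeZero (n i) := ⟨by have := hn i; omega⟩
    let f : A →* Multiplicative (ZMod (n i)) := (Pi.evalMonoidHom _ i).comp e.toMonoidHom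
    have hf : Function.Surjective f := by
      intro y
      refine ⟨e.symm (Function.update 1 i y), ?_⟩
      show (e (e.symm (Function.update 1 i y))) i = y
      rw [e.apply_symm_apply, Function.update_self]
    have h1 := Subgroup.card_dvd_of_surjective f hf
    have h2 : Nat.card (Multiplicative (ZMod (n i))) = n i := Nat.card_zmod (n i)
    rw [h2] at h1
    obtain ⟨k, hk⟩ := (IsPGroup.iff_card).1 hpA
    rw [hk] at h1
    obtain ⟨m, _, hm⟩ := (Nat.dvd_prime_pow hp.out).1 h1
    rw [hm]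
    have : m ≠ 0 := by
      rintro rfl
      have := hn i
      rw [hm] at this
      simp at this
    exact dvd_pow_self p this
  refine ⟨fun x => ZMod.castHom (hdvd i) (ZMod p) (e x i).toAdd,
    fun x => ZMod.castHom (hdvd j) (ZMod p) (e x j).toAdd, ?_, ?_, ?_⟩
  · intro x y
    show ZMod.castHom (hdvd i) (ZMod p) ((e (x * y) i).toAdd) =
      ZMod.castHom (hdvd i) (ZMod p) (e x i).toAdd + ZMod.castHom (hdvd i) (ZMod p) (e y i).toAdd
    rw [map_mul e]
    exact map_add _ _ _
  · intro x y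
    show ZMod.castHom (hdvd j) (ZMod p) ((e (x * y) j).toAdd) =
      ZMod.castHom (hdvd j) (ZMod p) (e x j).toAdd + ZMod.castHom (hdvd j) (ZMod p) (e y j).toAdd
    rw [map_mul e]
    exact map_add _ _ _
  · intro a b
    obtain ⟨a', ha'⟩ := ZMod.ringHom_surjective (ZMod.castHom (hdvd i) (ZMod p)) a
    obtain ⟨b', hb'⟩ := ZMod.ringHom_surjective (ZMod.castHom (hdvd j) (ZMod p)) b
    refine ⟨e.symm (Function.update (Function.update 1 i (Multiplicative.ofAdd a')) j
      (Multiplicative.ofAdd b')), ?_, ?_⟩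
    · show ZMod.castHom (hdvd i) (ZMod p) ((e (e.symm _)) i).toAdd = a
      rw [e.apply_symm_apply, Function.update_of_ne hij, Function.update_self]
      exact ha'
    · show ZMod.castHom (hdvd j) (ZMod p) ((e (e.symm _)) j).toAdd = b
      rw [e.apply_symm_apply, Function.update_self]
      exact hb'

theorem exists_cov {G : Type u} [Group G] [Finite G] {p : ℕ} [hp : Fact p.Prime] {P : Sylow p G}
    (hS : Sit P) (hnc : ¬ IsCyclic P.toSubgroup) :
    ∃ (R : Subgroup G) (E : Type u) (_ : Group E) (_ : Finite E) (π : E →* G)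
      (ζ : Multiplicative (ZMod p) →* E), Cov P R π ζ := by
  have hA : ∀ a b : P.toSubgroup, a * b = b * a := fun a b => Subtype.ext (hS.comm a a.2 b b.2)
  obtain ⟨φ1, φ2, h1, h2, h3⟩ := exists_phi hA P.isPGroup' hnc
  have h10 : φ1 1 = 0 := by
    have := h1 1 1
    rw [mul_one] at this
    simpa using this
  have h20 : φ2 1 = 0 := by
    have := h2 1 1
    rw [mul_one] at this
    simpa using this
  let B : P.toSubgroup → P.toSubgroup → ZMod p := fun x y => φ1 x * φ2 y - φ2 x * φ1 y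
  have hB : Alt B := by
    refine ⟨?_, ?_, ?_⟩
    · intro x y z
      show φ1 (x * y) * φ2 z - φ2 (x * y) * φ1 z = _
      rw [h1, h2]; ring
    · intro x y z
      show φ1 x * φ2 (y * z) - φ2 x * φ1 (y * z) = _
      rw [h1, h2]; ring
    · intro x
      show φ1 x * φ2 x - φ2 x * φ1 x = 0
      ring
  obtain ⟨E, iE, fE, π, ζ, hs, hi, hk, hz, hc⟩ := exists_ext P.toSubgroup hB hS.fus hA
  let Φ : P.toSubgroup →* Multiplicative (ZMod p × ZMod p) :=
    { toFun := fun x => Multiplicative.ofAdd (φ1 x, φ2 x)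
      map_one' := by rw [h10, h20]; rfl
      map_mul' := by intro x y; rw [h1, h2]; rfl }
  have hΦ : Function.Surjective Φ := by
    intro y
    obtain ⟨x, hx1, hx2⟩ := h3 y.toAdd.1 y.toAdd.2
    refine ⟨x, ?_⟩
    show Multiplicative.ofAdd (φ1 x, φ2 x) = y
    rw [hx1, hx2]; rfl
  have hker : ∀ x : P.toSubgroup, x ∈ Φ.ker ↔ φ1 x = 0 ∧ φ2 x = 0 := by
    intro x
    rw [MonoidHom.mem_ker]
    constructor
    · intro h
      exact ⟨congrArg (fun y => (Multiplicative.toAdd y).1) h,
        congrArg (fun y => (Multiplicative.toAdd y).2) h⟩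
    · rintro ⟨h, h'⟩
      show Multiplicative.ofAdd (φ1 x, φ2 x) = 1
      rw [h, h']; rfl
  have hidx : (2 * (P.toSubgroup.index : ZMod p)) ≠ 0 := by
    apply mul_ne_zero
    · intro h0
      have h0' : ((2 : ℕ) : ZMod p) = 0 := by exact_mod_cast h0
      rw [ZMod.natCast_eq_zero_iff] at h0'
      have := Nat.le_of_dvd (by norm_num) h0'
      have := hp.out.two_le
      exact hS.odd (by omega)
    · rw [Ne, ZMod.natCast_eq_zero_iff]
      exact P.not_dvd_index
  refine ⟨Φ.ker.map P.toSubgroup.subtype, E, iE, fE, π, ζ, hs, hi, hk, hz, Subgroup.map_subtype_le _,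
    ?_, ?_, ?_⟩
  · rw [Subgroup.card_map_of_injective P.toSubgroup.subtype_injective, ← Φ.ker.card_mul_index,
      Subgroup.index_ker, MonoidHom.range_eq_top.2 hΦ, Subgroup.card_top, mul_comm]
    congr 1
    have : Nat.card (Multiplicative (ZMod p × ZMod p)) = Nat.card (ZMod p × ZMod p) := rfl
    rw [this, Nat.card_prod, Nat.card_zmod, pow_two]
  · intro x y hx hy
    obtain ⟨r, hr, hrx⟩ := hx
    have hxP : π x ∈ P.toSubgroup := by rw [← hrx]; exact r.2
    have hxr : (⟨π x, hxP⟩ : P.toSubgroup) = r := Subtype.ext hrx.symm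
    have h4 := (hker r).1 hr
    rw [hc x y hxP hy]
    have h5 : B ⟨π x, hxP⟩ ⟨π y, hy⟩ = 0 := by
      show φ1 _ * φ2 _ - φ2 _ * φ1 _ = 0
      rw [hxr, h4.1, h4.2]; ring
    rw [h5, mul_zero, ofAdd_zero, map_one, mul_one]
  · intro x hx hxR
    have h4 : ¬ (φ1 ⟨π x, hx⟩ = 0 ∧ φ2 ⟨π x, hx⟩ = 0) := by
      intro h5
      exact hxR ⟨⟨π x, hx⟩, (hker _).2 h5, rfl⟩
    have h5 : ∃ y : P.toSubgroup, B ⟨π x, hx⟩ y ≠ 0 := by
      by_cases h6 : φ1 ⟨π x, hx⟩ = 0
      · have h7 : φ2 ⟨π x, hx⟩ ≠ 0 := fun h8 => h4 ⟨h6, h8⟩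
        obtain ⟨y, hy1, hy2⟩ := h3 1 0
        refine ⟨y, ?_⟩
        show φ1 _ * φ2 _ - φ2 _ * φ1 _ ≠ 0
        rw [hy1, hy2]
        simpa using h7
      · obtain ⟨y, hy1, hy2⟩ := h3 0 1
        refine ⟨y, ?_⟩
        show φ1 _ * φ2 _ - φ2 _ * φ1 _ ≠ 0
        rw [hy1, hy2]
        simpa using h6
    obtain ⟨y, hy⟩ := h5
    obtain ⟨y', hy'⟩ := hs (y : G)
    have hyP : π y' ∈ P.toSubgroup := by rw [hy']; exact y.2
    refine ⟨y', _, hyP, ?_, hc x y' hx hyP⟩
    intro h6
    have h7 : 2 * (P.toSubgroup.index : ZMod p) * B ⟨π x, hx⟩ ⟨π y', hyP⟩ = 0 := h6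
    have h8 : (⟨π y', hyP⟩ : P.toSubgroup) = y := Subtype.ext hy'
    rw [h8] at h7
    exact (mul_ne_zero hidx hy) h7

end Cfsg.Agent.H92.ST
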