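import Cfsg.Agent.H92.STg
import Cfsg.Agent.H92.STh
import Cfsg.Agent.H4.CharKer
import Cfsg.Agent.H64.Basic
import Cfsg.Agent.H63.PLen

/-!
# The theorem of Smith and Tyrer (owner: helper92)
-/

set_option autoImplicit false
set_option linter.unusedSectionVars false
set_option linter.style.haveILetI false
set_option linter.unusedVariables false

universe u

namespace Cfsg.Agent.H92.ST

open Cfsg Cfsg.Agent.CharBase

section basic

variable {G : Type u} [Group G] [Finite G] {p : ℕ} [hp : Fact p.Prime] {P : Sylow p G}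

theorem norm_sub {H : Subgroup G} (hle : P.toSubgroup ≤ H) {n : H}
    (hn : n ∈ Subgroup.normalizer ((P.subtype hle : Subgroup H) : Set H)) :
    (n : G) ∈ Subgroup.normalizer (P.toSubgroup : Set G) := by
  rw [Subgroup.mem_normalizer_iff]
  intro y
  constructor
  · intro hy
    have hyC : y ∈ H := hle hy
    have h1 : (⟨y, hyC⟩ : H) ∈ (P.subtype hle : Subgroup _) := hy
    exact (Subgroup.mem_normalizer_iff.1 hn ⟨y, hyC⟩).1 h1
  · intro hy
    have hyC : (n : G) * y * (n : G)⁻¹ ∈ H := hle hy
    have hyC' : y ∈ H := by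
      have := mul_mem (mul_mem (inv_mem n.2) hyC) n.2
      simpa [mul_assoc] using this
    exact (Subgroup.mem_normalizer_iff.1 hn ⟨y, hyC'⟩).2 hy

theorem core_normal (hS : Sit P) (M0 : Subgroup G) [hM0 : M0.Normal] (hle : P.toSubgroup ≤ M0)
    (hO : pPrimeCore p G = ⊥)
    (ih : ∀ (P' : Sylow p M0), Sit P' → ¬ IsCyclic P'.toSubgroup → pPrimeCore p M0 = ⊥ →
      P'.toSubgroup.Normal) (hnc : ¬ IsCyclic P.toSubgroup) : P.toSubgroup.Normal := by
  have hO' : pPrimeCore p M0 = ⊥ := by
    have h1 := Cfsg.Agent.Solv.map_subtype_pPrimeCore_le (G := G) p M0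
    rw [hO, le_bot_iff, Subgroup.map_eq_bot_iff_of_injective _ M0.subtype_injective] at h1
    exact h1
  have hclaim : (P.subtype hle : Subgroup M0).Normal := by
    by_cases hinv : ∃ s ∈ M0, ∀ x ∈ P.toSubgroup, s⁻¹ * x * s = x⁻¹
    · apply ih
      · refine ⟨hS.odd, ?_, ?_, ?_⟩
        · intro x hx y hy
          apply Subtype.ext
          exact hS.comm x hx y hy
        · obtain ⟨s, hs, hsx⟩ := hinv
          refine ⟨⟨s, hs⟩, ?_⟩
          intro x hx
          apply Subtype.ext
          exact hsx x hx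
        · intro m hm
          rcases hS.nrm m (norm_sub hle hm) with h1 | h1
          · left
            intro x hx
            apply Subtype.ext
            exact h1 x hx
          · right
            intro x hx
            apply Subtype.ext
            exact h1 x hx
      · intro hc
        apply hnc
        have e : (P.subtype hle : Subgroup M0) ≃* P.toSubgroup := Subgroup.subgroupOfEquivOfLe hle
        exact isCyclic_of_surjective e e.surjective
      · exact hO'
    · have hnpc : Cfsg.HasNormalPComplement p M0 := by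
        refine Cfsg.Agent.Transfer.hasNPC_of_normalizer_le_centralizer (P.subtype hle) ?_
        intro m hm
        rcases hS.nrm m (norm_sub hle hm) with h1 | h1
        · rw [Subgroup.mem_centralizer_iff]
          rintro ⟨y, hyC⟩ hy
          have h2 := h1 y hy
          apply Subtype.ext
          show y * (m : G) = m * y
          calc y * (m : G) = m * ((m : G)⁻¹ * y * m) := by group
            _ = m * y := by rw [h2]
        · exact absurd ⟨(m : G), m.2, h1⟩ hinv
      obtain ⟨N, hN, hc, k, hk⟩ := Cfsg.Agent.Transfer.hasNPC_iff_exists.1 hnpc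
      have hN1 : N = ⊥ := by
        have : N ≤ pPrimeCore p M0 := le_sSup ⟨hN, hc⟩
        rwa [hO', le_bot_iff] at this
      rw [hN1, Subgroup.index_bot] at hk
      have h1 : (P.subtype hle : Subgroup M0).index ∣ p ^ k := by
        rw [← hk]; exact Subgroup.index_dvd_card _
      obtain ⟨j, _, hj⟩ := (Nat.dvd_prime_pow hp.out).1 h1
      have h2 := (P.subtype hle).not_dvd_index
      have h3 : (P.subtype hle : Subgroup M0).index = 1 := by
        rcases Nat.eq_zero_or_pos j with h4 | h4
        · rw [hj, h4, pow_zero]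
        · exact absurd (hj ▸ dvd_pow_self p h4.ne') h2
      rw [Subgroup.index_eq_one.1 h3]
      infer_instance
  letI := Sylow.unique_of_normal (P.subtype hle) hclaim
  refine ⟨fun x hx g => ?_⟩
  have hy : g * x * g⁻¹ ∈ M0 := hM0.conj_mem x (hle hx) g
  haveI := Fintype.ofFinite G
  obtain ⟨j, hj⟩ := ppow (P := P) x hx
  have h1 : IsPGroup p (Subgroup.zpowers (⟨g * x * g⁻¹, hy⟩ : M0)) := by
    apply IsPGroup.of_card (n := j)
    rw [Nat.card_zpowers, Subgroup.orderOf_mk, ← hj]
    exact orderOf_injective (MulAut.conj g).toMonoidHom (MulAut.conj g).injective x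
  obtain ⟨Q, hQ⟩ := h1.exists_le_sylow
  have h2 : Q = P.subtype hle := Subsingleton.elim _ _
  rw [h2] at hQ
  exact hQ (Subgroup.mem_zpowers _)

/-- there is an involution -/
theorem exists_inv (hS : Sit P) (hne : ∃ x ∈ P.toSubgroup, x ≠ 1) : ∃ τ : G, orderOf τ = 2 := by
  obtain ⟨t, ht⟩ := hS.inv
  obtain ⟨x, hx, hx1⟩ := hne
  have hev : 2 ∣ orderOf t := by
    by_contra hodd
    have h1 : Odd (orderOf t) := by
      rw [← Nat.not_even_iff_odd, even_iff_two_dvd]; exact hodd
    obtain ⟨m, hm⟩ := h1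
    have hx' : t⁻¹ * x * t = x⁻¹ := ht x hx
    have hc : Commute (t ^ 2) x := by
      have h2 : t⁻¹ * x⁻¹ * t = x := by
        have := ht _ (inv_mem hx)
        rwa [inv_inv] at this
      show t ^ 2 * x = x * t ^ 2
      calc t ^ 2 * x = t ^ 2 * (t⁻¹ * x⁻¹ * t) := by rw [h2]
        _ = t * x⁻¹ * t := by rw [pow_two]; group
        _ = t * (t⁻¹ * x * t) * t := by rw [hx']
        _ = x * t ^ 2 := by rw [pow_two]; group
    have h3 : t = (t ^ 2) ^ (m + 1) := by
      rw [← pow_mul, show 2 * (m + 1) = orderOf t + 1 by rw [hm]; ring, pow_succ, pow_orderOf_eq_one,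
        one_mul]
    have h4 : Commute t x := by
      rw [h3]; exact hc.pow_left _
    have h5 : t⁻¹ * x * t = x := by
      rw [mul_assoc, ← h4.eq]; group
    exact hx1 (hS.eq_one_of_mem hx h5 hx')
  have h1 : orderOf t ≠ 0 := (orderOf_pos t).ne'
  exact ⟨t ^ (orderOf t / 2), orderOf_pow_orderOf_div h1 hev⟩

end basic

/-- the case `O_{p'}(G) = 1` -/
theorem core {p : ℕ} [hp : Fact p.Prime] (n : ℕ) : ∀ (G : Type u) [Group G] [Finite G] (P : Sylow p G),
    Nat.card G = n → Sit P → ¬ IsCyclic P.toSubgroup → pPrimeCore p G = ⊥ → P.toSubgroup.Normal := by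
  induction n using Nat.strong_induction_on with
  | _ n ih =>
  intro G _ _ P hn hS hnc hO
  haveI := Fintype.ofFinite G
  obtain ⟨M, hM⟩ := H4.exists_isPModular p
  obtain ⟨R, E, iE, fE, π, ζ, hC⟩ := exists_cov hS hnc
  haveI := Fintype.ofFinite E
  have hp3 : 3 ≤ p := by
    have := hp.out.two_le
    have := hS.odd
    omega
  have hN9 : 9 ≤ Nat.card P.toSubgroup := by
    rw [hC.card]
    have h1 : 1 ≤ Nat.card R := Nat.card_pos
    have h2 : 3 ^ 2 ≤ p ^ 2 := Nat.pow_le_pow_left hp3 2
    calc 9 = 3 ^ 2 * 1 := by norm_num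
      _ ≤ p ^ 2 * Nat.card R := Nat.mul_le_mul h2 h1
  obtain ⟨χ, δ, hχ, hχ1, hδ, hv⟩ := exists_chi hS hM hN9
  have hne : ∃ x ∈ P.toSubgroup, x ≠ 1 := by
    by_contra hcon
    push Not at hcon
    have h1 : P.toSubgroup = ⊥ := (Subgroup.eq_bot_iff_forall _).2 hcon
    rw [h1, Subgroup.card_bot] at hN9
    omega
  obtain ⟨d, hd⟩ := exists_nat_degree (irr_isCharacter χ)
  by_cases hcase : (δ : ℂ) * (χ : G → ℂ) 1 = 1
  · -- the linear case
    have h1 : δ = 1 ∧ d = 1 := by
      rw [hd] at hcase
      have h2 : δ * (d : ℤ) = 1 := by exact_mod_cast hcase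
      rcases hδ with h3 | h3
      · rw [h3, one_mul] at h2
        exact ⟨h3, by exact_mod_cast h2⟩
      · rw [h3] at h2
        exfalso
        have : (0 : ℤ) ≤ d := Int.natCast_nonneg d
        omega
    have hχ11 : (χ : G → ℂ) 1 = 1 := by rw [hd, h1.2]; norm_num
    have hle : P.toSubgroup ≤ H4.charKer χ := by
      intro x hx
      rw [H4.mem_charKer]
      by_cases hx1 : x = 1
      · rw [hx1]
      · rw [hv x hx hx1, hχ11, h1.1]; norm_num
    have hlt : Nat.card (H4.charKer χ) < n := by
      rw [← hn]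
      refine lt_of_le_of_ne (Subgroup.card_le_card_group _) ?_
      intro hcard
      have htop : H4.charKer χ = ⊤ := Subgroup.eq_top_of_card_eq _ hcard
      apply hχ1
      apply Subtype.ext
      funext x
      have : x ∈ H4.charKer χ := by rw [htop]; trivial
      rw [H4.mem_charKer] at this
      rw [this, hχ11]; rfl
    exact core_normal hS (H4.charKer χ) hle hO
      (fun P' hS' hnc' hO' => ih _ hlt (H4.charKer χ) P' rfl hS' hnc' hO') hnc
  · -- the other case is impossible
    exfalso
    have hδ2 : (δ : ℂ) ^ 2 = 1 := by rcases hδ with h1 | h1 <;> rw [h1] <;> norm_num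
    have hKP : ∀ x ∈ P.toSubgroup, x ∈ H4.charKer χ → x = 1 := by
      intro x hx hxK
      by_contra hx1
      rw [H4.mem_charKer, hv x hx hx1] at hxK
      apply hcase
      rw [← hxK, ← pow_two]; exact hδ2
    have hcop : (Nat.card (H4.charKer χ)).Coprime p := by
      rw [Nat.coprime_comm, Nat.Prime.coprime_iff_not_dvd hp.out]
      intro hdvd
      obtain ⟨a, ha⟩ := exists_prime_orderOf_dvd_card' p hdvd
      have ha' : orderOf (a : G) = p := by rw [Subgroup.orderOf_coe]; exact ha
      obtain ⟨c, hc⟩ := exists_conj_mem P (a := (a : G)) ⟨1, by rw [ha', pow_one]⟩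
      have h1 := hKP _ hc ((H4.charKer_normal χ).conj_mem _ a.2 c)
      have h2 : (a : G) = 1 := by
        have : (a : G) = c⁻¹ * (c * a * c⁻¹) * c := by group
        rw [this, h1]; group
      rw [h2, orderOf_one] at ha'
      exact hp.out.one_lt.ne ha'
    have hK : H4.charKer χ = ⊥ := by
      have : H4.charKer χ ≤ pPrimeCore p G := le_sSup ⟨H4.charKer_normal χ, hcop⟩
      rwa [hO, le_bot_iff] at this
    obtain ⟨τ, hτ⟩ := exists_inv hS hne
    rcases key hC hS hM hχ hχ1 hδ hv hτ with h1 | h1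
    · exact hcase h1
    · have h2 : τ ∈ H4.charKer χ := (H4.mem_charKer χ τ).2 h1
      rw [hK, Subgroup.mem_bot] at h2
      rw [h2, orderOf_one] at hτ
      norm_num at hτ

/-- the `p`-length statement -/
theorem plength {G : Type u} [Group G] [Finite G] {p : ℕ} [hp : Fact p.Prime] {P : Sylow p G}
    (hS : Sit P) (hnc : ¬ IsCyclic P.toSubgroup) : PLengthLE p 1 G := by
  set O := pPrimeCore p G with hO
  have hOc : (Nat.card O).Coprime p := Cfsg.Agent.Solv.pPrimeCore_card_coprime p
  have hs := QuotientGroup.mk'_surjective O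
  set Pb : Sylow p (G ⧸ O) := P.mapSurjective hs with hPb
  have hPbe : Pb.toSubgroup = P.toSubgroup.map (QuotientGroup.mk' O) := Sylow.coe_mapSurjective hs P
  have hmem : ∀ x ∈ Pb.toSubgroup, ∃ y ∈ P.toSubgroup, QuotientGroup.mk' O y = x := by
    intro x hx
    rw [hPbe] at hx
    exact hx
  have hSb : Sit Pb := by
    refine ⟨hS.odd, ?_, ?_, ?_⟩
    · intro x hx y hy
      obtain ⟨x, hxP, rfl⟩ := hmem x hx
      obtain ⟨y, hyP, rfl⟩ := hmem y hy
      rw [← map_mul, ← map_mul, hS.comm x hxP y hyP]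
    · obtain ⟨t, ht⟩ := hS.inv
      refine ⟨QuotientGroup.mk' O t, ?_⟩
      intro x hx
      obtain ⟨x, hxP, rfl⟩ := hmem x hx
      rw [← map_inv, ← map_inv, ← map_mul, ← map_mul, ht x hxP]
    · intro m hm
      obtain ⟨m, rfl⟩ := hs m
      have h1 : m ∈ (Subgroup.normalizer (Pb.toSubgroup : Set (G ⧸ O))).comap (QuotientGroup.mk' O) := hm
      rw [Subgroup.comap_normalizer_eq_of_surjective _ hs, hPbe, Subgroup.comap_map_eq,
        QuotientGroup.ker_mk', H64.normalizer_sup_sylow] at h1
      obtain ⟨o, ho, r, hr, rfl⟩ := Subgroup.mem_sup_of_normal_left.1 h1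
      have h2 : QuotientGroup.mk' O (o * r) = QuotientGroup.mk' O r := by
        rw [map_mul]
        have : QuotientGroup.mk' O o = 1 := (QuotientGroup.eq_one_iff o).2 ho
        rw [this, one_mul]
      rw [h2]
      rcases hS.nrm r hr with h3 | h3
      · left
        intro x hx
        obtain ⟨x, hxP, rfl⟩ := hmem x hx
        rw [← map_inv, ← map_mul, ← map_mul, h3 x hxP]
      · right
        intro x hx
        obtain ⟨x, hxP, rfl⟩ := hmem x hx
        rw [← map_inv, ← map_inv, ← map_mul, ← map_mul, h3 x hxP]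
  have hncb : ¬ IsCyclic Pb.toSubgroup := by
    intro hc
    apply hnc
    let f : P.toSubgroup →* Pb.toSubgroup :=
      { toFun := fun x => ⟨QuotientGroup.mk' O x, by
          rw [hPbe]; exact ⟨x, x.2, rfl⟩⟩
        map_one' := by
          apply Subtype.ext
          exact map_one _
        map_mul' := by
          intro x y
          apply Subtype.ext
          exact map_mul _ _ _ }
    refine isCyclic_of_injective f ?_
    rw [injective_iff_map_eq_one]
    intro x hx
    have h1 : QuotientGroup.mk' O (x : G) = 1 := congrArg Subtype.val hx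
    have h2 : (x : G) ∈ O := (QuotientGroup.eq_one_iff (x : G)).1 h1
    haveI := Fintype.ofFinite G
    obtain ⟨j, hj⟩ := ppow (P := P) x x.2
    have h3 : orderOf (x : G) ∣ Nat.card O := by
      have := orderOf_dvd_natCard (⟨(x : G), h2⟩ : O)
      rwa [Subgroup.orderOf_mk] at this
    have h4 : orderOf (x : G) = 1 := by
      have h5 : Nat.Coprime (orderOf (x : G)) p := Nat.Coprime.coprime_dvd_left h3 hOc
      rcases Nat.eq_zero_or_pos j with h6 | h6
      · rw [hj, h6, pow_zero]
      · exfalso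
        rw [hj] at h5
        have := Nat.Coprime.eq_one_of_dvd h5.symm (dvd_pow_self p h6.ne')
        exact hp.out.one_lt.ne' this
    exact Subtype.ext (orderOf_eq_one_iff.1 h4)
  have hnorm := core (p := p) _ (G ⧸ O) Pb rfl hSb hncb (Cfsg.Agent.Solv.pPrimeCore_quotient_pPrimeCore p)
  apply H63.pLengthLE_of_quotient_coprime O hOc
  apply H63.pLengthLE_of_quotient_pgroup Pb.toSubgroup Pb.isPGroup'
  rw [H63.pLengthLE_zero_iff, ← Subgroup.index_eq_card, Nat.coprime_comm,
    Nat.Prime.coprime_iff_not_dvd hp.out]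
  exact Pb.not_dvd_index

/-- homomorphisms to `p`-groups are trivial -/
theorem hom_trivial {G : Type u} [Group G] {p : ℕ} [hp : Fact p.Prime]
    (hres : pResidual p G = ⊤) {A : Type*} [Group A] (hA : IsPGroup p A) (f : G →* A) (g : G) :
    f g = 1 := by
  have h1 : pResidual p G ≤ f.ker := by
    unfold pResidual
    rw [Subgroup.closure_le]
    intro a ha
    have ha' : Nat.Coprime (orderOf a) p := ha
    show f a = 1
    obtain ⟨k, hk⟩ := hA (f a)
    have h2 : orderOf (f a) ∣ p ^ k := orderOf_dvd_of_pow_eq_one hk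
    have h3 : Nat.Coprime (orderOf (f a)) (p ^ k) :=
      Nat.Coprime.pow_right k (Nat.Coprime.coprime_dvd_left (orderOf_map_dvd f a) ha')
    exact orderOf_eq_one_iff.1 (Nat.Coprime.eq_one_of_dvd h3 h2)
  rw [hres] at h1
  exact h1 (Subgroup.mem_top g)

theorem sit_of {G : Type u} [Group G] [Finite G] {p : ℕ} [hp : Fact p.Prime] (hp2 : p ≠ 2)
    (P : Sylow p G) (hab : IsMulCommutative P.toSubgroup)
    (hidx : ((Subgroup.centralizer (P.toSubgroup : Set G)).subgroupOf
      (Subgroup.normalizer (P.toSubgroup : Set G))).index = 2)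
    (hres : pResidual p G = ⊤) : Sit P := by
  have hcomm : ∀ x ∈ P.toSubgroup, ∀ y ∈ P.toSubgroup, x * y = y * x := fun x hx y hy =>
    congrArg Subtype.val (hab.is_comm.comm (⟨x, hx⟩ : P.toSubgroup) ⟨y, hy⟩)
  -- fixed points
  have hfix : ∀ y ∈ P.toSubgroup, (∀ n ∈ Subgroup.normalizer (P.toSubgroup : Set G), n⁻¹ * y * n = y) →
      y = 1 := by
    intro y hy hyn
    letI : CommGroup P.toSubgroup :=
      { (inferInstance : Group P.toSubgroup) with mul_comm := fun a b => hab.is_comm.comm a b }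
    have hkey : ∀ (k : ℕ) (g₀ : G), g₀⁻¹ * y ^ k * g₀ ∈ P.toSubgroup → g₀⁻¹ * y ^ k * g₀ = y ^ k := by
      intro k g₀ hg
      obtain ⟨n, hn, he⟩ := P.conj_eq_normalizer_conj_of_mem (y ^ k) g₀ (pow_mem hy k) hg
      rw [he]
      have h1 := hyn n hn
      have h2 : (n⁻¹ * y * n) ^ k = n⁻¹ * y ^ k * n := by
        have := conj_pow (i := k) (a := n⁻¹) (b := y)
        rwa [inv_inv] at this
      rw [← h2, h1]
    have h1 := MonoidHom.transfer_eq_pow (MonoidHom.id P.toSubgroup) y hkey
    rw [hom_trivial hres P.isPGroup'] at h1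
    have h2 : y ^ P.toSubgroup.index = 1 := congrArg Subtype.val h1.symm
    obtain ⟨k, hk⟩ := P.isPGroup' ⟨y, hy⟩
    have h3 : y ^ p ^ k = 1 := congrArg Subtype.val hk
    have h4 : Nat.Coprime P.toSubgroup.index (p ^ k) := by
      apply Nat.Coprime.pow_right
      rw [Nat.coprime_comm, Nat.Prime.coprime_iff_not_dvd hp.out]
      exact P.not_dvd_index
    have h5 : orderOf y ∣ 1 := by
      rw [← h4]
      exact Nat.dvd_gcd (orderOf_dvd_of_pow_eq_one h2) (orderOf_dvd_of_pow_eq_one h3)
    exact orderOf_eq_one_iff.1 (Nat.dvd_one.1 h5)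
  have hmemC : ∀ c ∈ Subgroup.centralizer (P.toSubgroup : Set G), ∀ x ∈ P.toSubgroup,
      c⁻¹ * x * c = x := by
    intro c hc x hx
    rw [mul_assoc, (Subgroup.mem_centralizer_iff.1 hc x hx)]
    group
  have hinvert : ∀ n ∈ Subgroup.normalizer (P.toSubgroup : Set G),
      n ∉ Subgroup.centralizer (P.toSubgroup : Set G) → ∀ x ∈ P.toSubgroup, n⁻¹ * x * n = x⁻¹ := by
    intro n hn hnC x hx
    have hnx : ∀ y ∈ P.toSubgroup, n⁻¹ * y * n ∈ P.toSubgroup := by
      intro y hy
      have h1 := (Subgroup.mem_normalizer_iff.1 (inv_mem hn) y).1 hy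
      rwa [inv_inv] at h1
    have h2 : ∀ a b : Subgroup.normalizer (P.toSubgroup : Set G),
        ((a * b : Subgroup.normalizer (P.toSubgroup : Set G)) : G) ∈
          Subgroup.centralizer (P.toSubgroup : Set G) ↔
        ((a : G) ∈ Subgroup.centralizer (P.toSubgroup : Set G) ↔
          (b : G) ∈ Subgroup.centralizer (P.toSubgroup : Set G)) := by
      intro a b
      have := Subgroup.mul_mem_iff_of_index_two hidx (a := a) (b := b)
      simpa only [Subgroup.mem_subgroupOf] using this
    have hnn : n * n ∈ Subgroup.centralizer (P.toSubgroup : Set G) :=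
      (h2 ⟨n, hn⟩ ⟨n, hn⟩).2 Iff.rfl
    set y := x * (n⁻¹ * x * n) with hy
    have hyP : y ∈ P.toSubgroup := mul_mem hx (hnx x hx)
    have hyn : n⁻¹ * y * n = y := by
      have h3 := hmemC _ hnn x hx
      calc n⁻¹ * y * n = (n⁻¹ * x * n) * ((n * n)⁻¹ * x * (n * n)) := by rw [hy]; group
        _ = (n⁻¹ * x * n) * x := by rw [h3]
        _ = y := hcomm _ (hnx x hx) _ hx
    have hy1 : y = 1 := by
      apply hfix y hyP
      intro m hm
      by_cases hmC : m ∈ Subgroup.centralizer (P.toSubgroup : Set G)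
      · exact hmemC m hmC y hyP
      · have h3 : n⁻¹ * m ∈ Subgroup.centralizer (P.toSubgroup : Set G) := by
          refine (h2 ⟨n⁻¹, inv_mem hn⟩ ⟨m, hm⟩).2 ?_
          constructor
          · intro h4
            exact absurd ((Subgroup.inv_mem_iff _).1 h4) hnC
          · intro h4
            exact absurd h4 hmC
        have h4 := hmemC _ h3 y hyP
        calc m⁻¹ * y * m = (n⁻¹ * m)⁻¹ * (n⁻¹ * y * n) * (n⁻¹ * m) := by group
          _ = (n⁻¹ * m)⁻¹ * y * (n⁻¹ * m) := by rw [hyn]
          _ = y := h4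
    rw [hy] at hy1
    exact (inv_eq_of_mul_eq_one_right hy1).symm
  refine ⟨hp2, hcomm, ?_, ?_⟩
  · have h1 : ∃ n ∈ Subgroup.normalizer (P.toSubgroup : Set G),
        n ∉ Subgroup.centralizer (P.toSubgroup : Set G) := by
      by_contra hcon
      push Not at hcon
      have h2 : (Subgroup.centralizer (P.toSubgroup : Set G)).subgroupOf
          (Subgroup.normalizer (P.toSubgroup : Set G)) = ⊤ :=
        Subgroup.subgroupOf_eq_top.2 hcon
      rw [h2, Subgroup.index_top] at hidx
      norm_num at hidx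
    obtain ⟨n, hn, hnC⟩ := h1
    exact ⟨n, hinvert n hn hnC⟩
  · intro n hn
    by_cases hnC : n ∈ Subgroup.centralizer (P.toSubgroup : Set G)
    · exact Or.inl (hmemC n hnC)
    · exact Or.inr (hinvert n hn hnC)

end Cfsg.Agent.H92.ST
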